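import Cfsg.Agent.Lib.GoldStruct.Main

/-!
Goldschmidt's theorem on strongly closed abelian 2-subgroups, structural form (S2775).
-/

set_option autoImplicit false
set_option linter.unusedSectionVars false
set_option linter.style.haveILetI false

namespace CfsgLib.GoldStruct

open Cfsg Subgroup CfsgLib CfsgLib.Comp

universe u

variable {G : Type u} [Group G] [Finite G]

/-- Restriction to the normal closure. -/
theorem ab_closure {S : Sylow 2 G} {A : Subgroup G} (hA : Ab S A) :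
    ∃ P : Sylow 2 ↥(normalClosure (A : Set G)), Ab P (A.subgroupOf (normalClosure (A : Set G))) ∧
      normalClosure ((A.subgroupOf (normalClosure (A : Set G)) : Subgroup _) : Set ↥(normalClosure (A : Set G))) = ⊤ := by
  haveI : Fact (Nat.Prime 2) := ⟨Nat.prime_two⟩
  set K := normalClosure (A : Set G) with hK
  obtain ⟨P, hP⟩ := CfsgLib.CharPLocal.exists_sylow_subnormal S (inferInstance : K.Normal).isSubnormal
  have hAK : A ≤ K := fun a ha => subset_normalClosure ha
  have hPm : ∀ {k : ↥K}, k ∈ (P : Subgroup ↥K) ↔ (k : G) ∈ (S : Subgroup G) := fun {k} =>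
    ⟨fun h => (hP.le (mem_map_of_mem K.subtype h)).1, fun h => by
      obtain ⟨k', hk', hkk⟩ := hP.ge ⟨h, k.2⟩
      exact (K.subtype_injective hkk) ▸ hk'⟩
  refine ⟨P, ⟨fun k hk => hPm.mpr (hA.le hk), ⟨⟨fun a b => Subtype.ext (Subtype.ext (hA.comm a.2 b.2))⟩⟩,
    fun k hk => hPm.mpr (hA.le hk), fun k hk g hg => hA.closed.2 (k : G) hk (g : G) (hPm.mp hg)⟩, ?_⟩
  set N := normalClosure ((A.subgroupOf K : Subgroup ↥K) : Set ↥K) with hN
  set N' := N.map K.subtype with hN'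
  haveI : N'.Normal := by
    refine normalizer_eq_top_iff.mp (top_le_iff.mp ((Sylow.normalizer_sup_eq_top P).ge.trans (sup_le ?_ ?_)))
    · intro n hn
      have hmv : ∀ a ∈ A, n * a * n⁻¹ ∈ A := fun a ha => by
        refine hA.closed.2 a ha n (hP.le ?_).1
        exact (mem_normalizer_iff.mp hn a).mp (hP.ge ⟨hA.le ha, hAK ha⟩)
      refine mem_normalizer_of_maps ?_
      rintro _ ⟨k, hk, rfl⟩
      let c : ↥K →* ↥K := ((MulAut.conjNormal (H := K)) n).toMonoidHom
      have hle : N ≤ N.comap c := by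
        haveI : (N.comap c).Normal := normalClosure_normal.comap c
        exact normalClosure_le_normal fun a ha =>
          subset_normalClosure (show ((c a : ↥K) : G) ∈ A by
            show ((MulAut.conjNormal n a : ↥K) : G) ∈ A
            rw [MulAut.conjNormal_apply]; exact hmv (a : G) ha)
      refine ⟨c k, hle hk, ?_⟩
      show ((MulAut.conjNormal n k : ↥K) : G) = n * K.subtype k * n⁻¹
      rw [MulAut.conjNormal_apply]
      rfl
    · intro k hk
      refine mem_normalizer_of_maps ?_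
      rintro _ ⟨m, hm, rfl⟩
      exact ⟨_, (normalClosure_normal : N.Normal).conj_mem m hm ⟨k, hk⟩, rfl⟩
  refine top_le_iff.mp fun k _ => ?_
  obtain ⟨k', hk', hkk⟩ : (k : G) ∈ N' :=
    (normalClosure_le_normal (N := N') fun a ha => ⟨⟨a, hAK ha⟩, subset_normalClosure ha, rfl⟩) k.2
  exact (K.subtype_injective hkk) ▸ hk'

/-- The image of an abelian strongly closed subgroup modulo a normal subgroup of odd order. -/
theorem ab_image {H : Type u} [Group H] {S : Sylow 2 G} {A : Subgroup G} (hA : Ab S A) (π : G →* H)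
    (hπ : Function.Surjective π) (hker : π.ker = pPrimeCore 2 G) :
    ∃ T : Sylow 2 H, Ab T (A.map π) := by
  haveI : Fact (Nat.Prime 2) := ⟨Nat.prime_two⟩
  haveI : Finite H := Finite.of_surjective π hπ
  refine ⟨S.mapSurjective hπ, map_mono hA.le, ⟨⟨?_⟩⟩, map_mono hA.le, ?_⟩
  · rintro ⟨_, x, hx, rfl⟩ ⟨_, y, hy, rfl⟩
    refine Subtype.ext ?_
    show π x * π y = π y * π x
    rw [← map_mul, ← map_mul, hA.comm hx hy]
  rintro _ ⟨x, hx, rfl⟩ g hg
  obtain ⟨w, rfl⟩ := hπ g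
  obtain ⟨t, ht, hte⟩ := hg
  set W := (S : Subgroup G) ⊔ pPrimeCore 2 G with hW
  have hyW : w * x * w⁻¹ ∈ W := by
    have h1 : t⁻¹ * (w * x * w⁻¹) ∈ pPrimeCore 2 G := by
      rw [← hker, MonoidHom.mem_ker, map_mul, map_inv, hte, map_mul, map_mul, map_inv, inv_mul_cancel]
    have := mul_mem (mem_sup_left (T := pPrimeCore 2 G) ht) (mem_sup_right (S := (S : Subgroup G)) h1)
    rwa [mul_inv_cancel_left] at this
  obtain ⟨j, hj⟩ := hA.isPGroup ⟨x, hx⟩
  have hzp : IsPGroup 2 (zpowers (⟨w * x * w⁻¹, hyW⟩ : W)) := by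
    refine CfsgLib.Comp.zpowers_isPGroup (p := 2) (n := j) (Subtype.ext ?_)
    show (w * x * w⁻¹) ^ 2 ^ j = 1
    rw [conj_pow, show x ^ 2 ^ j = 1 from congrArg Subtype.val hj, mul_one, mul_inv_cancel]
  obtain ⟨Q, hQ⟩ := hzp.exists_le_sylow
  let P' : Sylow 2 W := S.subtype le_sup_left
  obtain ⟨u, hu⟩ := MulAction.exists_smul_eq W Q P'
  obtain ⟨s, hs, o, ho, hso⟩ := mem_sup_of_normal_right.mp (u.2 : (u : G) ∈ W)
  have h5 : (u : G) * (w * x * w⁻¹) * (u : G)⁻¹ ∈ (S : Subgroup G) := by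
    have h6 : MulAut.conj u ⟨w * x * w⁻¹, hyW⟩ ∈ (u • Q : Sylow 2 W).toSubgroup :=
      smul_mem_pointwise_smul _ _ _ (hQ (mem_zpowers _))
    rw [hu] at h6
    exact h6
  have h7 : o * w * x * (o * w)⁻¹ ∈ (S : Subgroup G) := by
    have := mul_mem (mul_mem (inv_mem hs) h5) hs
    rw [← hso] at this
    simpa [mul_assoc] using this
  refine ⟨o * w * x * (o * w)⁻¹, hA.closed.2 x hx _ h7, ?_⟩
  have ho1 : π o = 1 := by rw [← MonoidHom.mem_ker, hker]; exact ho
  simp [map_mul, map_inv, ho1]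

/-- S2775. -/
theorem s2775 (S : Sylow 2 G) (A : Subgroup G) (hA : IsMulCommutative ↥A)
    (hsc : IsStronglyClosed A (S : Subgroup G)) (K : Subgroup G) (hK : K = normalClosure (A : Set G))
    (Q : Type u) [Group Q] (π : ↥K →* Q) (hπ : Function.Surjective π) (hker : π.ker = pPrimeCore 2 ↥K) :
    pCore 2 Q ⊔ commutator Q = ⊤ ∧ pCore 2 Q ≤ center Q ∧
      (∃ T : Sylow 2 Q, (A.subgroupOf K).map π ≤ (T : Subgroup Q) ∧
        (A.subgroupOf K).map π = pCore 2 Q ⊔ omegaOne 2 (T : Subgroup Q)) ∧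
      ∃ (ι : Type) (_ : Fintype ι) (L : ι → Type u) (_ : ∀ i, Group (L i)),
        (∀ i, IsSimpleGroup (L i) ∧ ¬ IsMulCommutative (L i) ∧ IsGoldschmidtGroup (L i)) ∧
        Nonempty (↥(commutator Q) ⧸ center ↥(commutator Q) ≃* ((i : ι) → L i)) := by
  haveI : Fact (Nat.Prime 2) := ⟨Nat.prime_two⟩
  subst hK
  haveI : Finite Q := Finite.of_surjective π hπ
  obtain ⟨P, hP, hgen⟩ := ab_closure (S := S) (A := A) ⟨hsc.1, hA, hsc⟩
  obtain ⟨T, hT⟩ := ab_image hP π hπ hker
  have hO : pPrimeCore 2 Q = ⊥ := by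
    let e : ↥(normalClosure (A : Set G)) ⧸ pPrimeCore 2 ↥(normalClosure (A : Set G)) ≃* Q :=
      (QuotientGroup.quotientMulEquivOfEq hker.symm).trans (QuotientGroup.quotientKerEquivOfSurjective π hπ)
    have h := pPrimeCore_quotient_eq_bot (G := ↥(normalClosure (A : Set G))) 2
    rw [← CfsgLib.pPrimeCore_map_equiv 2 e, h, Subgroup.map_bot]
  have hgenQ : normalClosure (((A.subgroupOf _).map π : Subgroup Q) : Set Q) = ⊤ := by
    rw [Subgroup.coe_map, ← Subgroup.map_normalClosure _ π hπ, hgen, Subgroup.map_top_of_surjective π hπ]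
  obtain ⟨h1, h2, h3, h4⟩ := structure_main hO hT hgenQ
  exact ⟨h1, h2, ⟨T, hT.le, h3⟩, h4⟩

end CfsgLib.GoldStruct
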