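import Cfsg.Agent.Lib.GoldStruct.Side
import Cfsg.Agent.Lib.GoldStruct.Top
import Cfsg.Agent.Lib.AfterFT.PairClosed.Main
import Cfsg.Agent.S0205

/-!
Two commuting strongly closed 2-subgroups: the commutator of their normal closures lies in the normal closure of
their intersection times the core (S2767).
-/

set_option autoImplicit false
set_option linter.unusedSectionVars false
set_option linter.style.haveILetI false

namespace CfsgLib.GoldStruct

open Cfsg Subgroup CfsgLib CfsgLib.Comp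
open scoped commutatorElement
open CfsgLib.S3Simple (mem_normalizer_of_map_eq component_not_comm)

universe u

variable {G : Type u} [Group G] [Finite G]

/-- Acts on `E` as one of its elements. -/
def InnerOn (E : Subgroup G) (g : G) : Prop := ∃ e ∈ E, e⁻¹ * g ∈ centralizer (E : Set G)

theorem InnerOn.mem_normalizer {E : Subgroup G} {g : G} (h : InnerOn E g) : g ∈ normalizer (E : Set G) := by
  obtain ⟨e, he, hc⟩ := h
  have h1 := mul_mem ((le_normalizer : E ≤ normalizer (E : Set G)) he) ((centralizer_le_normalizer (s := (E : Set G))) hc)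
  rwa [mul_inv_cancel_left] at h1

/-- The subgroup of elements acting innerly. -/
def innerSub (E : Subgroup G) : Subgroup G where
  carrier := {g | InnerOn E g}
  one_mem' := ⟨1, one_mem _, by simp⟩
  mul_mem' := by
    rintro g h ⟨e, he, hc⟩ ⟨f, hf, hd⟩
    refine ⟨e * f, mul_mem he hf, ?_⟩
    have e1 : (e * f)⁻¹ * (g * h) = (e⁻¹ * g) * (f⁻¹ * h) := by
      have := hc f⁻¹ (inv_mem hf)
      calc (e * f)⁻¹ * (g * h) = f⁻¹ * (e⁻¹ * g) * h := by group
        _ = e⁻¹ * g * f⁻¹ * h := by rw [this]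
        _ = _ := by group
    rw [e1]
    exact mul_mem hc hd
  inv_mem' := by
    rintro g ⟨e, he, hc⟩
    refine ⟨e⁻¹, inv_mem he, ?_⟩
    have h1 := hc e he
    have e1 : e⁻¹⁻¹ * g⁻¹ = (e⁻¹ * g)⁻¹ := by
      calc e⁻¹⁻¹ * g⁻¹ = e * (e⁻¹ * g)⁻¹ * e⁻¹ := by group
        _ = (e⁻¹ * g)⁻¹ := by
          rw [(show Commute e (e⁻¹ * g) from h1).inv_right.eq, mul_inv_cancel_right]
    rw [e1]
    exact inv_mem hc

theorem innerOn_self {E : Subgroup G} {g : G} (hg : g ∈ E) : InnerOn E g :=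
  ⟨g, hg, by rw [inv_mul_cancel]; exact one_mem _⟩

theorem InnerOn.conj {E : Subgroup G} {g : G} (h : InnerOn E g) (x : G) :
    InnerOn (E.map (MulAut.conj x).toMonoidHom) (x * g * x⁻¹) := by
  obtain ⟨e, he, hc⟩ := h
  refine ⟨x * e * x⁻¹, ⟨e, he, rfl⟩, ?_⟩
  rintro _ ⟨f, hf, rfl⟩
  show x * f * x⁻¹ * ((x * e * x⁻¹)⁻¹ * (x * g * x⁻¹)) = (x * e * x⁻¹)⁻¹ * (x * g * x⁻¹) * (x * f * x⁻¹)
  calc x * f * x⁻¹ * ((x * e * x⁻¹)⁻¹ * (x * g * x⁻¹)) = x * (f * (e⁻¹ * g)) * x⁻¹ := by group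
    _ = x * (e⁻¹ * g * f) * x⁻¹ := by rw [hc f hf]
    _ = _ := by group

/-- Adjusting over a finite set of components. -/
theorem adjust_on {p : Subgroup G → Prop} (hp : ∀ E, p E → IsComponent E) {B : Subgroup G} {x : G}
    (h : ∀ v ∈ B, ∀ E, p E → ∃ w ∈ B ⊓ E, x * v * w ∈ centralizer (E : Set G)) :
    ∃ u ∈ B, ∀ E, p E → x * u ∈ centralizer (E : Set G) := by
  classical
  haveI := Fintype.ofFinite (Subgroup G)
  suffices h' : ∀ s : Finset (Subgroup G), (∀ E ∈ s, p E) →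
      ∃ u ∈ B, ∀ E ∈ s, x * u ∈ centralizer (E : Set G) by
    obtain ⟨u, hu, hc⟩ := h' (Finset.univ.filter p) fun E hE => (Finset.mem_filter.mp hE).2
    exact ⟨u, hu, fun E hE => hc E (Finset.mem_filter.mpr ⟨Finset.mem_univ _, hE⟩)⟩
  intro s
  induction s using Finset.induction_on with
  | empty => exact fun _ => ⟨1, one_mem _, fun E hE => absurd hE (Finset.notMem_empty E)⟩
  | @insert E s hEs ih =>
    intro hs
    obtain ⟨u, hu, hc⟩ := ih fun F hF => hs F (Finset.mem_insert_of_mem hF)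
    have hE := hs E (Finset.mem_insert_self _ _)
    obtain ⟨w, hw, hwc⟩ := h u hu E hE
    refine ⟨u * w, mul_mem hu (mem_inf.mp hw).1, fun F hF => ?_⟩
    rw [← mul_assoc]
    rcases Finset.mem_insert.mp hF with rfl | hFs
    · exact hwc
    · refine mul_mem (hc F hFs) fun f hf => ?_
      exact (comm_of_commutator_eq_bot ((components_eq_or_commute (hp _ hE) (hp _ (hs F hF))).resolve_left
        fun e => hEs (e ▸ hFs)) (mem_inf.mp hw).2 hf).symm

theorem pair_bot (hO : pPrimeCore 2 G = ⊥) (S : Sylow 2 G) (S₁ S₂ : Subgroup G)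
    (h₁ : IsStronglyClosed S₁ (S : Subgroup G)) (h₂ : IsStronglyClosed S₂ (S : Subgroup G))
    (hc : ∀ a ∈ S₁, ∀ b ∈ S₂, a * b = b * a) :
    ⁅normalClosure (S₁ : Set G), normalClosure (S₂ : Set G)⁆ ≤ normalClosure ((S₁ ⊓ S₂ : Subgroup G) : Set G) := by
  classical
  haveI : Fact (Nat.Prime 2) := ⟨Nat.prime_two⟩
  set T := S₁ ⊓ S₂ with hTdef
  have hTsc : IsStronglyClosed T (S : Subgroup G) :=
    ⟨inf_le_left.trans h₁.1, fun x hx g hg => mem_inf.mpr ⟨h₁.2 x (mem_inf.mp hx).1 g hg, h₂.2 x (mem_inf.mp hx).2 g hg⟩⟩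
  have hA : Ab S T := ⟨hTsc.1, ⟨⟨fun a b => Subtype.ext (hc a (mem_inf.mp a.2).1 b (mem_inf.mp b.2).2)⟩⟩, hTsc⟩
  obtain ⟨P, hPA, hgen⟩ := ab_closure hA
  set N := normalClosure (T : Set G) with hN
  haveI hNn : N.Normal := normalClosure_normal
  have hTN : T ≤ N := fun t ht => subset_normalClosure ht
  have hON : pPrimeCore 2 ↥N = ⊥ := (Subgroup.map_eq_bot_iff_of_injective _ N.subtype_injective).mp
    (le_bot_iff.mp (hO ▸ CfsgLib.ZStar.map_pPrimeCore_le_of_normal N))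
  obtain ⟨-, hZc, hZA, -⟩ := structure_main hON hPA hgen
  set ZN := (pCore 2 ↥N).map N.subtype with hZN
  haveI hZNn : ZN.Normal := inferInstance
  have hZT : ZN ≤ T := by
    rintro _ ⟨z, hz, rfl⟩
    exact (hZA.symm ▸ mem_sup_left hz : z ∈ T.subgroupOf N)
  -- the components in `N`
  set Mv : Subgroup G → Prop := fun E => IsComponent E ∧ E ≤ N with hMv
  have hMvc : ∀ E, Mv E → IsComponent E := fun E h => h.1
  have hMvconj : ∀ {E}, Mv E → ∀ x : G, Mv (E.map (MulAut.conj x).toMonoidHom) := fun {E} hE x =>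
    ⟨isComponent_map_equiv (MulAut.conj x) hE.1, by
      rintro _ ⟨e, he, rfl⟩
      exact hNn.conj_mem e (hE.2 he) x⟩
  have hne : ∀ {E}, Mv E → ¬ T ≤ centralizer (E : Set G) := by
    intro E hE hle
    have hEN : IsComponent (E.subgroupOf N) := isComponent_subgroupOf hE.1 hE.2
    haveI := components_normal (M := ↥N) ⟨hON, fun Y _ _ _ => GoldSC.main Y⟩ hPA hgen hEN
    haveI : (centralizer ((E.subgroupOf N : Subgroup ↥N) : Set ↥N)).Normal := normal_centralizer
    have htop := eq_top_of_le hgen (N := centralizer ((E.subgroupOf N : Subgroup ↥N) : Set ↥N))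
      fun t ht e he => Subtype.ext (hle ht (e : G) he)
    refine component_not_comm hEN ⟨⟨fun x y => ?_⟩⟩
    obtain ⟨a, rfl⟩ := QuotientGroup.mk'_surjective _ x
    obtain ⟨b, rfl⟩ := QuotientGroup.mk'_surjective _ y
    rw [← map_mul, ← map_mul]
    exact congrArg _ (Subtype.ext ((htop.ge (mem_top (b : ↥N))) a a.2))
  have hfr : ∀ {E}, Mv E → ∃ (Q : Sylow 2 ↥E) (TQ : Sylow 2 (↥E ⧸ center ↥E)), Frame S T E Q TQ :=
    fun hE => exists_frame hO hA hE.1 (hne hE)
  -- elements centralising `T` normalise them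
  have hnorm : ∀ {E}, Mv E → ∀ {x : G}, (∀ a ∈ T, x * a = a * x) → x ∈ normalizer (E : Set G) := fun hE _ hx => by
    obtain ⟨Q, TQ, F⟩ := hfr hE
    exact F.mem_normalizer hx
  have hcT₁ : ∀ x ∈ S₁, ∀ a ∈ T, x * a = a * x := fun x hx a ha => hc x hx a (mem_inf.mp ha).2
  have hcT₂ : ∀ y ∈ S₂, ∀ a ∈ T, y * a = a * y := fun y hy a ha => (hc a (mem_inf.mp ha).1 y hy).symm
  have hSnorm : ∀ {B : Subgroup G}, IsStronglyClosed B (S : Subgroup G) →
      ∀ s ∈ (S : Subgroup G), ∀ b ∈ B, s * b * s⁻¹ ∈ B := fun hB s hs b hb =>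
    hB.2 b hb s (mul_mem (mul_mem hs (hB.1 hb)) (inv_mem hs))
  -- `T` acts innerly, hence so does `N`
  have hTin : ∀ {E}, Mv E → ∀ t ∈ T, InnerOn E t := by
    intro E hE t ht
    obtain ⟨v, hv, hvc⟩ := (exists_blk hO hA hE.1 (hne hE)).act t ht
    refine ⟨v⁻¹, inv_mem (mem_inf.mp hv).2, ?_⟩
    rw [inv_inv]
    have hvt : v * t = t * v := hA.comm (mem_inf.mp hv).1 ht
    rwa [hvt]
  have hNin : ∀ {E}, Mv E → ∀ n ∈ N, InnerOn E n := by
    intro E hE n hn
    have hle : N ≤ innerSub E := by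
      rw [hN, normalClosure, closure_le]
      intro y hy
      obtain ⟨t, ht, hty⟩ := Group.mem_conjugatesOfSet_iff.mp hy
      obtain ⟨g, rfl⟩ := isConj_iff.mp hty
      have h := (hTin (hMvconj hE g⁻¹) t ht).conj g
      rw [show (E.map (MulAut.conj g⁻¹).toMonoidHom).map (MulAut.conj g).toMonoidHom = E by
        rw [Subgroup.map_map]
        convert Subgroup.map_id E using 2
        ext y; simp [mul_assoc]] at h
      exact h
    exact hle hn
  -- what centralises them inside `N`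
  have hcentN : ∀ y ∈ N, (∀ E, Mv E → y ∈ centralizer (E : Set G)) → y ∈ ZN := by
    intro y hy h
    refine ⟨⟨y, hy⟩, ?_, rfl⟩
    have h1 : generalizedFittingSubgroup ↥N ≤ centralizer ({⟨y, hy⟩} : Set ↥N) := by
      refine sup_le (sSup_le fun E hE e he => ?_) (fun q hq => ?_)
      · refine mem_centralizer_singleton_iff.mpr (Subtype.ext ?_)
        exact h (E.map N.subtype) ⟨isComponent_map_subtype hNn.isSubnormal hE, map_subtype_le _⟩ (e : G)
          ⟨e, he, rfl⟩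
      · rw [fitting_eq_pCore Nat.prime_two hON] at hq
        exact mem_centralizer_singleton_iff.mpr (mem_center_iff.mp (hZc hq) _).symm
    haveI : (centralizer (generalizedFittingSubgroup ↥N : Set ↥N)).Normal := normal_centralizer
    have h2 : centralizer (generalizedFittingSubgroup ↥N : Set ↥N) ≤ fittingSubgroup ↥N :=
      le_fittingSubgroup (nilpotent_of_comm fun a ha b hb => hb a (centralizer_generalizedFitting_le ha))
    rw [← fitting_eq_pCore Nat.prime_two hON]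
    exact h2 fun q hq => mem_centralizer_singleton_iff.mp (h1 hq)
  -- squares and commutators of `S ∩ N`
  have hsqN : ∀ t ∈ (S : Subgroup G), t ∈ N → t * t ∈ T := by
    intro t htS htN
    have h2 : ∀ E, Mv E → ∃ v ∈ T ⊓ E, t * t * v ∈ centralizer (E : Set G) := by
      intro E hE
      haveI := S3Simple.component_isSimple hE.1
      obtain ⟨Q, TQ, F⟩ := hfr hE
      obtain ⟨e, he, hec⟩ := hNin hE t htN
      set π := QuotientGroup.mk' (center ↥E) with hπ
      have htE := (hNin hE t htN).mem_normalizer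
      have heT : π ⟨e, he⟩ ∈ (TQ : Subgroup _) := by
        have hn : π ⟨e, he⟩ ∈ normalizer ((TQ : Subgroup (↥E ⧸ center ↥E)) : Set (↥E ⧸ center ↥E)) := by
          refine mem_normalizer_of_maps fun r hr => ?_
          rw [F.img] at hr
          obtain ⟨p, hp, rfl⟩ := hr
          rw [← map_inv, ← map_mul, ← map_mul]
          refine F.mapP ?_
          show e * p * e⁻¹ ∈ (S : Subgroup G)
          have h1 : (p : G) * (e⁻¹ * t) = e⁻¹ * t * p := hec p p.2
          rw [show e * (p : G) * e⁻¹ = e * (p * (e⁻¹ * t)) * t⁻¹ by group, h1,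
            show e * (e⁻¹ * t * p) * t⁻¹ = t * p * t⁻¹ by group]
          exact mul_mem (mul_mem htS (F.mem.mp hp)) (inv_mem htS)
        obtain ⟨j, hj⟩ := S.2 ⟨t, htS⟩
        have hcm : Commute e (e⁻¹ * t) := hec e he
        have ht' : t ^ 2 ^ j = 1 := congrArg Subtype.val hj
        have hpow : e ^ 2 ^ j * (e⁻¹ * t) ^ 2 ^ j = 1 := by
          rw [← hcm.mul_pow, mul_inv_cancel_left, ht']
        have hec2 : π ⟨e, he⟩ ^ 2 ^ j = 1 := by
          rw [← map_pow]
          refine (QuotientGroup.eq_one_iff _).mpr (mem_center_iff.mpr fun f => Subtype.ext ?_)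
          show (f : G) * e ^ 2 ^ j = e ^ 2 ^ j * f
          have h3 : (f : G) * (e⁻¹ * t) ^ 2 ^ j = (e⁻¹ * t) ^ 2 ^ j * f :=
            (pow_mem hec (2 ^ j)) f f.2
          rw [eq_inv_of_mul_eq_one_left hpow]
          exact (Commute.inv_right (show Commute (f : G) ((e⁻¹ * t) ^ 2 ^ j) from h3)).eq
        exact (mem_inf.mp (((CfsgLib.Comp.zpowers_isPGroup hec2).inf_normalizer_sylow TQ) ▸
          mem_inf.mpr ⟨mem_zpowers _, hn⟩ : π ⟨e, he⟩ ∈ zpowers (π ⟨e, he⟩) ⊓ (TQ : Subgroup _))).2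
      obtain ⟨v, hv, hve⟩ := F.cover _ (mul_mem heT heT) (F.fine.sq _ heT)
      refine ⟨((v⁻¹ : ↥E) : G), mem_inf.mpr ⟨T.inv_mem hv, (v⁻¹).2⟩, ?_⟩
      rw [← map_mul] at hve
      have hz : v⁻¹ * (⟨e, he⟩ * ⟨e, he⟩) ∈ center ↥E := QuotientGroup.eq.mp hve
      have hcc : (e * e) * (v : G)⁻¹ ∈ centralizer (E : Set G) := fun f hf => by
        have hz2 : (⟨e, he⟩ * ⟨e, he⟩) * v⁻¹ ∈ center ↥E := by
          rwa [show (⟨e, he⟩ * ⟨e, he⟩ : ↥E) = v * (v⁻¹ * (⟨e, he⟩ * ⟨e, he⟩)) by group,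
            mem_center_iff.mp hz v, mul_inv_cancel_right]
        exact congrArg Subtype.val (mem_center_iff.mp hz2 ⟨f, hf⟩)
      have hte : t * t = e * e * ((e⁻¹ * t) * (e⁻¹ * t)) := by
        have := hec e he
        calc t * t = e * ((e⁻¹ * t) * e) * (e⁻¹ * t) := by group
          _ = e * (e * (e⁻¹ * t)) * (e⁻¹ * t) := by rw [this]
          _ = _ := by group
      show t * t * (v : G)⁻¹ ∈ _
      rw [hte, mul_assoc, show (e⁻¹ * t) * (e⁻¹ * t) * (v : G)⁻¹ = (v : G)⁻¹ * ((e⁻¹ * t) * (e⁻¹ * t)) from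
        ((mul_mem hec hec) _ (inv_mem v.2)).symm, ← mul_assoc]
      exact mul_mem hcc (mul_mem hec hec)
    obtain ⟨u, hu, hall⟩ := adjust_on hMvc (B := T) (x := t * t) fun v hv E hE => by
      obtain ⟨w, hw, hwc⟩ := h2 E hE
      obtain ⟨w', hw', hw'c⟩ := (exists_blk hO hA hE.1 (hne hE)).act v hv
      refine ⟨w' * w, mul_mem hw' hw, ?_⟩
      rw [show t * t * v * (w' * w) = t * t * (v * w') * (t * t)⁻¹ * (t * t * w) by group]
      refine mul_mem ?_ hwc
      have hN' := (hNin hE _ (mul_mem htN htN)).mem_normalizer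
      intro f hf
      have hf' : (t * t)⁻¹ * f * (t * t) ∈ E := (mem_normalizer_iff''.mp hN' f).mp hf
      calc f * (t * t * (v * w') * (t * t)⁻¹) = t * t * ((t * t)⁻¹ * f * (t * t) * (v * w')) * (t * t)⁻¹ := by group
        _ = t * t * ((v * w') * ((t * t)⁻¹ * f * (t * t))) * (t * t)⁻¹ := by rw [hw'c _ hf']
        _ = _ := by group
    have h3 := T.mul_mem (hZT (hcentN _ (mul_mem (mul_mem htN htN) (hTN hu)) hall)) (T.inv_mem hu)
    rwa [mul_inv_cancel_right] at h3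
  have hcomT : ∀ u ∈ (S : Subgroup G), u ∈ N → ∀ p ∈ (S : Subgroup G), p ∈ N → u * p * u⁻¹ * p⁻¹ ∈ T := by
    intro u hu huN p hp hpN
    rw [show u * p * u⁻¹ * p⁻¹ = u * u * (u⁻¹ * p * (u⁻¹ * p)) * (p * p)⁻¹ by group]
    exact T.mul_mem (T.mul_mem (hsqN u hu huN) (hsqN _ (mul_mem (inv_mem hu) hp) (mul_mem (inv_mem huN) hpN)))
      (T.inv_mem (hsqN p hp hpN))
  -- an element of one subgroup congruent modulo `N` to one of the other
  have hadj : ∀ {B B' : Subgroup G}, IsStronglyClosed B (S : Subgroup G) → IsStronglyClosed B' (S : Subgroup G) →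
      T ≤ B → T ≤ B' → B ⊓ B' ≤ T → (∀ x ∈ B, ∀ a ∈ T, x * a = a * x) → ∀ x ∈ B, ∀ y ∈ B', y⁻¹ * x ∈ N →
      ∃ u ∈ B ⊓ N, ∀ E, Mv E → x * u ∈ centralizer (E : Set G) := by
    intro B B' hB hB' hTB hTB' hinf hcB x hx y hy hxy
    refine adjust_on hMvc fun v hv E hE => ?_
    obtain ⟨hvB, hvN⟩ := mem_inf.mp hv
    obtain ⟨Q, TQ, F⟩ := hfr hE
    have hxv : x * v ∈ B := B.mul_mem hx hvB
    have hu : y⁻¹ * (x * v) ∈ N := by rw [← mul_assoc]; exact mul_mem hxy hvN
    have huS : y⁻¹ * (x * v) ∈ (S : Subgroup G) := mul_mem (inv_mem (hB'.1 hy)) (hB.1 hxv)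
    obtain ⟨w, hw, hwc⟩ := F.side hA hB hTB hxv (hcB _ hxv) fun p hp hpE => by
      have hd := hcomT _ huS hu p hp (hE.2 hpE)
      set u := y⁻¹ * (x * v) with hudef
      refine hinf (mem_inf.mpr ⟨?_, ?_⟩)
      · rw [show x * v * p * (x * v)⁻¹ * p⁻¹ = x * v * (p * (x * v)⁻¹ * p⁻¹) by group]
        exact B.mul_mem hxv (hSnorm hB p hp _ (B.inv_mem hxv))
      · have e : x * v = y * u := (mul_inv_cancel_left y _).symm
        rw [e, show y * u * p * (y * u)⁻¹ * p⁻¹ = y * (u * p * u⁻¹ * p⁻¹) * y⁻¹ * (y * (p * y⁻¹ * p⁻¹)) by group]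
        exact B'.mul_mem (B'.mul_mem (B'.mul_mem hy (hTB' hd)) (B'.inv_mem hy))
          (B'.mul_mem hy (hSnorm hB' p hp _ (B'.inv_mem hy)))
    exact ⟨w, mem_inf.mpr ⟨mem_inf.mpr ⟨(mem_inf.mp hw).1, hE.2 (mem_inf.mp hw).2⟩, (mem_inf.mp hw).2⟩, hwc⟩
  have hdisj : ∀ x ∈ S₁, ∀ y ∈ S₂, y⁻¹ * x ∈ N → x ∈ N := by
    intro x hx y hy hxy
    obtain ⟨u, hu, hxc⟩ := hadj h₁ h₂ inf_le_left inf_le_right le_rfl hcT₁ x hx y hy hxy
    have hyx : x⁻¹ * y ∈ N := by
      rw [show x⁻¹ * y = (y⁻¹ * x)⁻¹ by group]; exact inv_mem hxy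
    obtain ⟨u', hu', hyc⟩ := hadj h₂ h₁ inf_le_right inf_le_left (inf_comm S₂ S₁).le hcT₂ y hy x hx hyx
    obtain ⟨huB, huN⟩ := mem_inf.mp hu
    obtain ⟨hu'B, hu'N⟩ := mem_inf.mp hu'
    have hm : (y * u')⁻¹ * (x * u) ∈ N := by
      rw [show (y * u')⁻¹ * (x * u) = u'⁻¹ * (y⁻¹ * x) * u by group]
      exact mul_mem (mul_mem (inv_mem hu'N) hxy) huN
    have h3 := hZT (hcentN _ hm fun E hE => mul_mem (inv_mem (hyc E hE)) (hxc E hE))
    have h4 : x * u ∈ T := mem_inf.mpr ⟨S₁.mul_mem hx huB, by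
      have := S₂.mul_mem (S₂.mul_mem hy hu'B) (mem_inf.mp h3).2
      rwa [mul_inv_cancel_left] at this⟩
    have := mul_mem (hTN h4) (inv_mem huN)
    rwa [mul_inv_cancel_right] at this
  -- the cores of the quotient
  set π := QuotientGroup.mk' N with hπ
  have hd : S₁.map π ⊓ S₂.map π = ⊥ := by
    rw [eq_bot_iff]
    rintro _ ⟨⟨x, hx, rfl⟩, ⟨y, hy, hxy⟩⟩
    exact (QuotientGroup.eq_one_iff x).mpr (hdisj x hx y hy (QuotientGroup.eq.mp hxy))
  have hX := CfsgLib.AfterFT.PairClosed.commutator_normalClosure_le (fun H _ _ h => Cfsg.Agent.S0205.result h)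
    (S.mapSurjective (QuotientGroup.mk'_surjective N)) (S₁.map π) (S₂.map π)
    (Cfsg.Agent.S1250.result S S₁ h₁ N) (Cfsg.Agent.S1250.result S S₂ h₂ N)
    (by
      rintro _ ⟨a, ha, rfl⟩ _ ⟨b, hb, rfl⟩
      rw [← map_mul, ← map_mul, hc a ha b hb]) hd
  -- components meeting one of the two outside `T`: the case is invariant
  have hinv : ∀ {B : Subgroup G}, IsStronglyClosed B (S : Subgroup G) → ∀ {E}, Mv E → B ⊓ E ≤ T →
      ∀ g : G, B ⊓ E.map (MulAut.conj g).toMonoidHom ≤ T := by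
    intro B hB E hE hle g z hz
    obtain ⟨hzB, e, he, hez⟩ := mem_inf.mp hz
    obtain ⟨P', hP'⟩ : ∃ P' : Sylow 2 ↥N, (P' : Subgroup ↥N).map N.subtype = (S : Subgroup G) ⊓ N :=
      CfsgLib.CharPLocal.exists_sylow_subnormal S hNn.isSubnormal
    have hg : g ∈ (((normalizer (((P' : Subgroup ↥N).map N.subtype : Subgroup G) : Set G)) ⊔ N : Subgroup G) : Set G) :=
      (Sylow.normalizer_sup_eq_top P').ge (mem_top g)
    rw [Subgroup.mul_normal] at hg
    obtain ⟨h, hh, n, hn, rfl⟩ := hg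
    have hn' := (hNin hE n hn).mem_normalizer
    have he' : n * e * n⁻¹ ∈ E := (mem_normalizer_iff.mp hn' e).mp he
    have hzh : h⁻¹ * z * h = n * e * n⁻¹ := by
      rw [← hez]; show h⁻¹ * (h * n * e * (h * n)⁻¹) * h = _
      group
    have hzN : z ∈ N := by
      rw [← hez]; exact hNn.conj_mem e (hE.2 he) _
    rw [hP'] at hh
    have h1 : h⁻¹ * z * h ∈ (S : Subgroup G) ⊓ N :=
      (mem_normalizer_iff''.mp hh z).mp ⟨hB.1 hzB, hzN⟩
    have h2 : h⁻¹ * z * h ∈ B := by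
      have := hB.2 z hzB h⁻¹ (by rw [inv_inv]; exact (mem_inf.mp h1).1)
      rwa [inv_inv] at this
    have h3 : h⁻¹ * z * h ∈ T := hle (mem_inf.mpr ⟨h2, hzh ▸ he'⟩)
    have h4 := hTsc.2 _ h3 h (by rw [show h * (h⁻¹ * z * h) * h⁻¹ = z by group]; exact hB.1 hzB)
    rwa [show h * (h⁻¹ * z * h) * h⁻¹ = z by group] at h4
  have hinner : ∀ {B : Subgroup G}, IsStronglyClosed B (S : Subgroup G) → T ≤ B → (∀ x ∈ B, ∀ a ∈ T, x * a = a * x) →
      ∀ {E}, Mv E → B ⊓ E ≤ T → ∀ s ∈ B, ∀ g : G, InnerOn E (g * s * g⁻¹) := by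
    intro B hB hTB hcB E hE hle s hs g
    have hE' := hMvconj hE g⁻¹
    obtain ⟨Q, TQ, F⟩ := hfr hE'
    obtain ⟨w, hw, hwc⟩ := F.side hA hB hTB hs (hcB s hs) fun p hp hpE => by
      refine hinv hB hE hle g⁻¹ (mem_inf.mpr ⟨?_, ?_⟩)
      · rw [show s * p * s⁻¹ * p⁻¹ = s * (p * s⁻¹ * p⁻¹) by group]
        exact B.mul_mem hs (hSnorm hB p hp _ (B.inv_mem hs))
      · exact mul_mem ((mem_normalizer_iff.mp (F.mem_normalizer (hcB s hs)) p).mp hpE) (inv_mem hpE)
    have hin : InnerOn (E.map (MulAut.conj g⁻¹).toMonoidHom) s := by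
      have h1 : s * w ∈ innerSub (E.map (MulAut.conj g⁻¹).toMonoidHom) := ⟨1, one_mem _, by rwa [inv_one, one_mul]⟩
      have h2 := mul_mem h1 (inv_mem (show w ∈ innerSub (E.map (MulAut.conj g⁻¹).toMonoidHom) from
        innerOn_self (mem_inf.mp hw).2))
      rwa [mul_inv_cancel_right] at h2
    have h := hin.conj g
    rw [show (E.map (MulAut.conj g⁻¹).toMonoidHom).map (MulAut.conj g).toMonoidHom = E by
      rw [Subgroup.map_map]
      convert Subgroup.map_id E using 2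
      ext y; simp [mul_assoc]] at h
    exact h
  have hnormC : ∀ {B : Subgroup G}, (∀ x ∈ B, ∀ a ∈ T, x * a = a * x) → ∀ {E}, Mv E → ∀ s ∈ B, ∀ g : G,
      g * s * g⁻¹ ∈ normalizer (E : Set G) := by
    intro B hcB E hE s hs g
    have h := hnorm (hMvconj hE g⁻¹) (hcB s hs)
    refine mem_normalizer_of_maps fun x hx => ?_
    obtain ⟨y, hy, hye⟩ : s * (g⁻¹ * x * g) * s⁻¹ ∈ E.map (MulAut.conj g⁻¹).toMonoidHom :=
      (mem_normalizer_iff.mp h _).mp ⟨x, hx, by simp⟩
    rw [show g * s * g⁻¹ * x * (g * s * g⁻¹)⁻¹ = g * (s * (g⁻¹ * x * g) * s⁻¹) * g⁻¹ by group, ← hye]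
    simpa [mul_assoc] using hy
  -- everything in `N` is generated by the components and the centre
  set U := (⨆ E : {E : Subgroup G // Mv E}, (E : Subgroup G)) ⊔ ZN with hU
  haveI hUn : U.Normal := by
    refine normalizer_eq_top_iff.mp (top_le_iff.mp fun g _ => mem_normalizer_of_maps fun x hx => ?_)
    have hle : U ≤ U.comap (MulAut.conj g).toMonoidHom := sup_le (iSup_le fun E e he => ?_)
      fun z hz => mem_sup_right (hZNn.conj_mem z hz g)
    · exact hle hx
    · exact mem_sup_left (mem_iSup_of_mem (S := fun F : {E : Subgroup G // Mv E} => (F : Subgroup G)) ⟨_, hMvconj E.2 g⟩ ⟨e, he, rfl⟩)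
  have hNU : N ≤ U := normalClosure_le_normal fun t ht => by
    obtain ⟨u, hu, htc⟩ := adjust_on hMvc (B := T ⊓ U) (x := t) fun v hv E hE => by
      obtain ⟨w, hw, hwc⟩ := (exists_blk hO hA hE.1 (hne hE)).act (t * v) (T.mul_mem ht (mem_inf.mp hv).1)
      exact ⟨w, mem_inf.mpr ⟨mem_inf.mpr ⟨(mem_inf.mp hw).1,
        mem_sup_left (mem_iSup_of_mem ⟨E, hE⟩ (mem_inf.mp hw).2)⟩, (mem_inf.mp hw).2⟩, hwc⟩
    obtain ⟨huT, huU⟩ := mem_inf.mp hu
    have h1 := hcentN _ (mul_mem (hTN ht) (hTN huT)) htc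
    have := mul_mem (mem_sup_right (S := ⨆ E : {E : Subgroup G // Mv E}, (E : Subgroup G)) h1) (inv_mem huU)
    rwa [mul_inv_cancel_right] at this
  -- the part of the preimage of the core centralising `N` is in `N`
  set X := (oddCore (G ⧸ N)).comap π with hXdef
  haveI : (centralizer (N : Set G)).Normal := normal_centralizer
  have hD : X ⊓ centralizer (N : Set G) ≤ N := by
    set D := X ⊓ centralizer (N : Set G) with hDdef
    haveI : D.Normal := inferInstance
    obtain ⟨R⟩ : Nonempty (Sylow 2 ↥D) := inferInstance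
    have hodd : ∀ d : ↥D, (∃ j : ℕ, d ^ 2 ^ j = 1) → (d : G) ∈ N := by
      rintro d ⟨j, hj⟩
      refine (QuotientGroup.eq_one_iff _).mp (orderOf_eq_one_iff.mp (Nat.eq_one_of_dvd_coprimes
        ((Nat.coprime_two_left.mpr (odd_card_oddCore (G := G ⧸ N))).pow_left j)
        (orderOf_dvd_of_pow_eq_one (by
          rw [← QuotientGroup.mk_pow, ← SubmonoidClass.coe_pow, hj]; rfl))
        ((oddCore (G ⧸ N)).orderOf_dvd_natCard (mem_inf.mp d.2).1)))
    have hRc : ∀ r ∈ (R : Subgroup ↥D), ∀ d : ↥D, r * d = d * r := fun r hr d => by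
      have hrN : (r : G) ∈ N := hodd r (let ⟨j, hj⟩ := R.2 ⟨r, hr⟩; ⟨j, congrArg Subtype.val hj⟩)
      exact Subtype.ext ((mem_inf.mp d.2).2 (r : G) hrN)
    have hNC : normalizer ((R : Subgroup ↥D) : Set ↥D) ≤ centralizer ((R : Subgroup ↥D) : Set ↥D) :=
      fun d _ r hr => hRc r hr d
    have hK := MonoidHom.ker_transferSylow_isComplement' R hNC
    set K := (MonoidHom.transferSylow R hNC).ker
    have hKcop : (Nat.card K).Coprime 2 := by
      rw [← hK.index_eq_card]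
      exact ((Nat.prime_two.coprime_iff_not_dvd).mpr R.not_dvd_index).symm
    have hKbot : K = ⊥ := by
      have h1 : pPrimeCore 2 ↥D = ⊥ := (Subgroup.map_eq_bot_iff_of_injective _ D.subtype_injective).mp
        (le_bot_iff.mp (hO ▸ CfsgLib.ZStar.map_pPrimeCore_le_of_normal D))
      exact le_bot_iff.mp (h1 ▸ CfsgLib.le_pPrimeCore hKcop)
    rw [hKbot] at hK
    have hR : (R : Subgroup ↥D) = ⊤ := isComplement'_bot_left.mp hK
    intro d hdD
    obtain ⟨j, hj⟩ := R.2 ⟨⟨d, hdD⟩, hR ▸ mem_top _⟩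
    exact hodd ⟨d, hdD⟩ ⟨j, congrArg Subtype.val hj⟩
  -- a commutator of conjugates
  have key : ∀ a ∈ Group.conjugatesOfSet (S₁ : Set G), ∀ b ∈ Group.conjugatesOfSet (S₂ : Set G),
      a * b * a⁻¹ * b⁻¹ ∈ N := by
    intro a ha b hb
    obtain ⟨s, hs, hsa⟩ := Group.mem_conjugatesOfSet_iff.mp ha
    obtain ⟨g, rfl⟩ := isConj_iff.mp hsa
    obtain ⟨s', hs', hsb⟩ := Group.mem_conjugatesOfSet_iff.mp hb
    obtain ⟨k, rfl⟩ := isConj_iff.mp hsb
    set a := g * s * g⁻¹ with hadef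
    set b := k * s' * k⁻¹ with hbdef
    set c := a * b * a⁻¹ * b⁻¹ with hcdef
    have hcX : c ∈ X := by
      refine hX ?_
      rw [hcdef, map_mul, map_mul, map_mul, map_inv, map_inv, ← commutatorElement_def]
      refine commutator_mem_commutator ?_ ?_
      · rw [hadef, map_mul, map_mul, map_inv]
        exact normalClosure_normal.conj_mem _ (subset_normalClosure (mem_map_of_mem π hs)) _
      · rw [hbdef, map_mul, map_mul, map_inv]
        exact normalClosure_normal.conj_mem _ (subset_normalClosure (mem_map_of_mem π hs')) _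
    have hcin : ∀ E, Mv E → InnerOn E c := by
      intro E hE
      obtain ⟨Q, TQ, F⟩ := hfr hE
      have hconjI : ∀ {i m : G}, InnerOn E i → m ∈ normalizer (E : Set G) → InnerOn E (m * i * m⁻¹) := by
        intro i m hi hm
        have h := hi.conj m
        rwa [show E.map (MulAut.conj m).toMonoidHom = E from
          CfsgLib.Local.map_conj_eq_of_mem_normalizer hm] at h
      rcases F.dichotomy h₁ h₂ hc with h | h
      · have hi : a ∈ innerSub E := hinner h₁ inf_le_left hcT₁ hE h s hs g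
        have hi' : b * a⁻¹ * b⁻¹ ∈ innerSub E := hconjI (inv_mem hi) (hnormC hcT₂ hE s' hs' k)
        rw [show c = a * (b * a⁻¹ * b⁻¹) by rw [hcdef]; group]
        exact mul_mem hi hi'
      · have hi : b ∈ innerSub E := hinner h₂ inf_le_right hcT₂ hE h s' hs' k
        have hi' : a * b * a⁻¹ ∈ innerSub E := hconjI hi (hnormC hcT₁ hE s hs g)
        rw [hcdef]
        exact mul_mem hi' (inv_mem hi)
    obtain ⟨l, hl, hlc⟩ := adjust_on hMvc (B := N) (x := c) fun v hv E hE => by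
      obtain ⟨e, he, hec⟩ := mul_mem (show c ∈ innerSub E from hcin E hE) (show v ∈ innerSub E from hNin hE v hv)
      refine ⟨e⁻¹, mem_inf.mpr ⟨inv_mem (hE.2 he), inv_mem he⟩, ?_⟩
      have h1 := hec e he
      rw [mul_inv_cancel_left] at h1
      rw [h1, mul_inv_cancel_right]
      exact hec
    have hzc : ∀ {B : Subgroup G}, (∀ x ∈ B, ∀ a ∈ T, x * a = a * x) → ∀ s ∈ B, ∀ g : G, ∀ z ∈ ZN,
        g * s * g⁻¹ * z = z * (g * s * g⁻¹) := by
      intro B hcB s hs g z hz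
      have hz' : g⁻¹ * z * g ∈ T := hZT (by
        have := hZNn.conj_mem z hz g⁻¹
        rwa [inv_inv] at this)
      calc g * s * g⁻¹ * z = g * (s * (g⁻¹ * z * g)) * g⁻¹ := by group
        _ = g * ((g⁻¹ * z * g) * s) * g⁻¹ := by rw [hcB s hs _ hz']
        _ = _ := by group
    have hlZ : ∀ z ∈ ZN, l * z = z * l := by
      rintro _ ⟨z, hz, rfl⟩
      exact congrArg Subtype.val (mem_center_iff.mp (hZc hz) ⟨l, hl⟩)
    have hdC : c * l ∈ centralizer (N : Set G) := by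
      have hle : U ≤ centralizer ({c * l} : Set G) := by
        refine sup_le (iSup_le fun E e he => mem_centralizer_singleton_iff.mpr (hlc E E.2 e he)) fun z hz =>
          mem_centralizer_singleton_iff.mpr ?_
        have hca : Commute a z := hzc hcT₁ s hs g z hz
        have hcb : Commute b z := hzc hcT₂ s' hs' k z hz
        have hcl : Commute l z := hlZ z hz
        exact ((((hca.mul_left hcb).mul_left hca.inv_left).mul_left hcb.inv_left).mul_left hcl).symm.eq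
      exact fun n hn => mem_centralizer_singleton_iff.mp (hle (hNU hn))
    have hlX : l ∈ X := by
      rw [hXdef, Subgroup.mem_comap, show π l = 1 from (QuotientGroup.eq_one_iff l).mpr hl]
      exact one_mem _
    have h5 := hD (mem_inf.mpr ⟨mul_mem hcX hlX, hdC⟩)
    have := mul_mem h5 (inv_mem hl)
    rwa [mul_inv_cancel_right] at this
  have h : ⁅(normalClosure (S₁ : Set G)).map π, (normalClosure (S₂ : Set G)).map π⁆ = ⊥ := by
    rw [Subgroup.commutator_eq_bot_iff_le_centralizer, normalClosure, normalClosure,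
      MonoidHom.map_closure, MonoidHom.map_closure, Subgroup.centralizer_closure, closure_le]
    rintro _ ⟨x, hx, rfl⟩ _ ⟨y, hy, rfl⟩
    have h1 : π (x * y * x⁻¹ * y⁻¹) = 1 := (QuotientGroup.eq_one_iff _).mpr (key x hx y hy)
    rw [map_mul, map_mul, map_mul, map_inv, map_inv] at h1
    exact (CfsgLib.AfterFT.PairClosed.commute_of_eq_one h1).symm.eq
  rwa [← Subgroup.map_commutator, Subgroup.map_eq_bot_iff, hπ, QuotientGroup.ker_mk'] at h

/-- S2767. -/
theorem s2767 (S : Sylow 2 G) (S₁ S₂ : Subgroup G) (h₁ : IsStronglyClosed S₁ (S : Subgroup G))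
    (h₂ : IsStronglyClosed S₂ (S : Subgroup G)) (hc : ∀ a ∈ S₁, ∀ b ∈ S₂, a * b = b * a) :
    ⁅normalClosure (S₁ : Set G), normalClosure (S₂ : Set G)⁆ ≤
      normalClosure ((S₁ ⊓ S₂ : Subgroup G) : Set G) ⊔ pPrimeCore 2 G := by
  haveI : Fact (Nat.Prime 2) := ⟨Nat.prime_two⟩
  set O := pPrimeCore 2 G with hO
  set π := QuotientGroup.mk' O with hπ
  have hinter : S₁.map π ⊓ S₂.map π = (S₁ ⊓ S₂).map π := by
    refine le_antisymm ?_ (Subgroup.map_inf_le _ _ _)
    rintro _ ⟨⟨x, hx, rfl⟩, ⟨y, hy, hxy⟩⟩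
    have h1 : y⁻¹ * x ∈ O := QuotientGroup.eq.mp hxy
    have h2 : y⁻¹ * x = 1 := by
      obtain ⟨j, hj⟩ := S.2 ⟨y⁻¹ * x, mul_mem (inv_mem (h₂.1 hy)) (h₁.1 hx)⟩
      exact orderOf_eq_one_iff.mp (Nat.eq_one_of_dvd_coprimes
        ((CfsgLib.card_pPrimeCore_coprime (G := G) 2).symm.pow_left j)
        (orderOf_dvd_of_pow_eq_one (congrArg Subtype.val hj)) (O.orderOf_dvd_natCard h1))
    rw [inv_mul_eq_one] at h2
    exact mem_map_of_mem π (mem_inf.mpr ⟨hx, h2 ▸ hy⟩)
  have h := pair_bot (pPrimeCore_quotient_eq_bot 2) (S.mapSurjective (QuotientGroup.mk'_surjective O))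
    (S₁.map π) (S₂.map π) (Cfsg.Agent.S1250.result S S₁ h₁ O) (Cfsg.Agent.S1250.result S S₂ h₂ O) (by
      rintro _ ⟨a, ha, rfl⟩ _ ⟨b, hb, rfl⟩
      rw [← map_mul, ← map_mul, hc a ha b hb])
  have hmap : ∀ H : Subgroup G, (normalClosure (H : Set G)).map π = normalClosure ((H.map π : Subgroup (G ⧸ O)) : Set (G ⧸ O)) :=
    fun H => by rw [Subgroup.coe_map, Subgroup.map_normalClosure _ π (QuotientGroup.mk'_surjective O)]
  rw [hinter, ← hmap, ← hmap, ← hmap, ← Subgroup.map_commutator, Subgroup.map_le_map_iff, hπ,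
    QuotientGroup.ker_mk'] at h
  exact h

end CfsgLib.GoldStruct
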