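import Cfsg.Agent.Lib.GoldSC.Ctx

/-!
An abelian strongly closed 2-subgroup and the components of a group with trivial core: normalisation, an element
inside, and the transfer lemma on the centre of a perfect group.
-/

set_option autoImplicit false
set_option linter.unusedSectionVars false
set_option linter.style.haveILetI false

namespace CfsgLib.GoldStruct

open Cfsg Subgroup CfsgLib CfsgLib.Comp CfsgLib.GoldSC
open CfsgLib.S3Simple (actQ actQ_apply centralizes_of_actQ component_isSimple component_not_comm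
  mem_normalizer_of_map_eq)

universe u

/-- An abelian subgroup strongly closed in a Sylow 2-subgroup. -/
structure Ab {M : Type u} [Group M] (T : Sylow 2 M) (A : Subgroup M) : Prop where
  le : A ≤ (T : Subgroup M)
  isComm : IsMulCommutative A
  closed : IsStronglyClosed A (T : Subgroup M)

variable {M : Type u} [Group M] [Finite M] {T : Sylow 2 M} {A E : Subgroup M}

theorem Ab.comm (hA : Ab T A) {a b : M} (ha : a ∈ A) (hb : b ∈ A) : a * b = b * a :=
  congrArg Subtype.val (hA.isComm.1.comm ⟨a, ha⟩ ⟨b, hb⟩)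

theorem Ab.isPGroup (hA : Ab T A) : IsPGroup 2 A := T.2.to_le hA.le

theorem Ab.le_normalizer (hA : Ab T A) : (T : Subgroup M) ≤ normalizer (A : Set M) := fun s hs =>
  CfsgLib.Bender.TwoClosed.mem_normalizer_of_conj fun a ha =>
    hA.closed.2 a ha s (mul_mem (mul_mem hs (hA.le ha)) (inv_mem hs))

/-- Strong closure in one Sylow subgroup gives it in any other over `A`. -/
theorem Ab.of_le (hA : Ab T A) {T' : Sylow 2 M} (h : A ≤ (T' : Subgroup M)) : Ab T' A := by
  haveI : Fact (Nat.Prime 2) := ⟨Nat.prime_two⟩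
  obtain ⟨g, hg⟩ := MulAction.exists_smul_eq M T T'
  have hmem : ∀ x, x ∈ (T' : Subgroup M) ↔ g⁻¹ * x * g ∈ (T : Subgroup M) := fun x => by
    rw [← hg, Sylow.coe_subgroup_smul, Subgroup.mem_pointwise_smul_iff_inv_smul_mem, MulAut.smul_def,
      MulAut.conj_inv_apply]
  have hmove : ∀ x ∈ A, g⁻¹ * x * g ∈ A := fun x hx => by
    have h1 := hA.closed.2 x hx g⁻¹ (by simpa using (hmem x).mp (h hx))
    simpa using h1
  have hgN : g ∈ Subgroup.normalizer (A : Set M) := by
    have : g⁻¹ ∈ Subgroup.normalizer (A : Set M) := mem_normalizer_of_maps fun x hx => by simpa using hmove x hx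
    simpa using inv_mem this
  refine ⟨h, hA.isComm, h, fun x hx k hk => ?_⟩
  have h1 := hA.closed.2 x hx (g⁻¹ * k) (by simpa [mul_assoc] using (hmem _).mp hk)
  have h2 := (Subgroup.mem_normalizer_iff.mp hgN _).mp h1
  simpa [mul_assoc] using h2

/-- A strongly closed abelian subgroup normalises every component. -/
theorem closed_normalizes (hM : Ctx M) (hA : Ab T A) (hE : IsComponent E) :
    A ≤ normalizer (E : Set M) := by
  classical
  haveI : Fact (Nat.Prime 2) := ⟨Nat.prime_two⟩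
  haveI := component_isSimple hE
  set K := ↥E ⧸ center ↥E
  set π := QuotientGroup.mk' (center ↥E) with hπ
  by_contra hnot
  obtain ⟨a, ha, hanE⟩ := SetLike.not_le_iff_exists.mp hnot
  have hTA := hA.le_normalizer
  obtain ⟨P, hP⟩ := CfsgLib.CharPLocal.exists_sylow_subnormal T hE.1
  let TQ : Sylow 2 K := P.mapSurjective (QuotientGroup.mk'_surjective _)
  have hab : IsMulCommutative (TQ : Subgroup K) := Cfsg.Agent.S2925.result E hE T A hA.le
    ((normal_subgroupOf_iff_le_normalizer hA.le).mpr hTA) hA.isComm hnot TQ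
  -- the normaliser of the Sylow subgroup of the quotient does not centralise it
  obtain ⟨k, hk, s, hs, hne⟩ : ∃ k ∈ normalizer ((TQ : Subgroup K) : Set K), ∃ s ∈ (TQ : Subgroup K),
      k * s * k⁻¹ ≠ s := by
    by_contra! hcon
    have hNC : normalizer ((TQ : Subgroup K) : Set K) ≤ centralizer ((TQ : Subgroup K) : Set K) :=
      fun k hk s hs => ((mul_inv_eq_iff_eq_mul.mp (hcon k hk s hs)) : k * s = s * k).symm
    have hK := MonoidHom.ker_transferSylow_isComplement' TQ hNC
    have h2 : 2 ∣ Nat.card (TQ : Subgroup K) := (TQ.dvd_card_of_dvd_card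
      (CfsgLib.CyclicInt.even_card_of_simple (component_not_comm hE)).two_dvd)
    rcases (MonoidHom.normal_ker (MonoidHom.transferSylow TQ hNC)).eq_bot_or_eq_top with h | h
    · rw [h] at hK
      have he : (TQ : Subgroup K) = ⊤ := isComplement'_bot_left.mp hK
      exact component_not_comm hE ⟨⟨fun x y => congrArg Subtype.val
        (hab.1.comm ⟨x, he ▸ mem_top x⟩ ⟨y, he ▸ mem_top y⟩)⟩⟩
    · rw [h] at hK
      rw [isComplement'_top_left.mp hK, card_bot] at h2
      norm_num at h2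
  obtain ⟨g, rfl⟩ := QuotientGroup.mk'_surjective _ k
  obtain ⟨e, he, rfl⟩ := hs
  have heT : (e : M) ∈ (T : Subgroup M) := (hP.le (mem_map_of_mem E.subtype he)).1
  have hgT : (g : M) * e * (g : M)⁻¹ ∈ (T : Subgroup M) := hM.mem_sylow_of_image T hE hP (e := g * e * g⁻¹) (by
    rw [map_mul, map_mul, map_inv]
    exact (mem_normalizer_iff.mp hk _).mp (mem_map_of_mem _ he))
  have hF : IsComponent (E.map (MulAut.conj a).toMonoidHom) := isComponent_map_equiv (MulAut.conj a) hE
  have hcom : ∀ x ∈ E, ∀ y ∈ E, (a * x * a⁻¹) * y = y * (a * x * a⁻¹) := fun x hx y hy =>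
    comm_of_commutator_eq_bot ((components_eq_or_commute hF hE).resolve_left fun h =>
      hanE (mem_normalizer_of_map_eq h)) ⟨x, hx, rfl⟩ hy
  set e' : M := a * e * a⁻¹ with he'
  set x : M := (e : M)⁻¹ * e' with hx
  have hxA : x ∈ A := by
    have h1 : (e : M)⁻¹ * a * e ∈ A := (mem_normalizer_iff''.mp (hTA heT) a).mp ha
    rw [hx, he', show (e : M)⁻¹ * (a * e * a⁻¹) = ((e : M)⁻¹ * a * e) * a⁻¹ by group]
    exact mul_mem h1 (inv_mem ha)
  have hge' : (g : M) * e' * (g : M)⁻¹ = e' := by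
    rw [← hcom _ e.2 _ g.2, mul_inv_cancel_right]
  have hgx : (g : M) * x * (g : M)⁻¹ = ((g : M) * e * (g : M)⁻¹)⁻¹ * e' := by
    rw [hx, show (g : M) * ((e : M)⁻¹ * e') * (g : M)⁻¹ =
      ((g : M) * e * (g : M)⁻¹)⁻¹ * ((g : M) * e' * (g : M)⁻¹) by group, hge']
  have hgxA : (g : M) * x * (g : M)⁻¹ ∈ A := hA.closed.2 x hxA g (by
    rw [hgx]
    exact mul_mem (inv_mem hgT) (mul_mem (mul_mem (hA.le ha) heT) (inv_mem (hA.le ha))))
  set y : ↥E := (g * e * g⁻¹)⁻¹ * e with hy
  have hyA : (y : M) ∈ A := by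
    have : (y : M) = (g : M) * x * (g : M)⁻¹ * x⁻¹ := by
      rw [hgx, hx, hy]
      push_cast
      group
    rw [this]
    exact mul_mem hgxA (inv_mem hxA)
  have hyc : y ∈ center ↥E := mem_center_iff.mpr fun z => Subtype.ext (by
    have h1 := hcom _ y.2 _ z.2
    rw [hA.comm ha hyA, mul_inv_cancel_right] at h1
    exact h1.symm)
  have hy1 : π y = 1 := (QuotientGroup.eq_one_iff y).mpr hyc
  rw [hy, map_mul, map_inv, map_mul, map_mul, map_inv, inv_mul_eq_one] at hy1
  exact hne hy1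

/-- A component moved by `A` contains an element of `A` outside its centre. -/
theorem exists_inside (hM : Ctx M) (hA : Ab T A) (hE : IsComponent E)
    (hne : ¬ A ≤ centralizer (E : Set M)) : ∃ e : ↥E, (e : M) ∈ A ∧ e ∉ center ↥E := by
  classical
  haveI : Fact (Nat.Prime 2) := ⟨Nat.prime_two⟩
  haveI := component_isSimple hE
  by_contra! hcon
  set N := normalizer (E : Set M) with hN
  have hEN : E ≤ N := le_normalizer
  have hAN : A ≤ N := closed_normalizes hM hA hE
  set Z : Subgroup ↥N := (center ↥E).map (inclusion hEN) with hZ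
  haveI : Z.Normal := ⟨by
    rintro _ ⟨z, hz, rfl⟩ n
    refine ⟨(E.normalizerMonoidHom n) z, mem_center_iff.mpr fun x => ?_, Subtype.ext rfl⟩
    obtain ⟨x', rfl⟩ := (E.normalizerMonoidHom n).surjective x
    rw [← map_mul, ← map_mul, mem_center_iff.mp hz x']⟩
  set f := QuotientGroup.mk' Z with hf
  obtain ⟨P, hP⟩ := (hA.isPGroup.of_equiv (subgroupOfEquivOfLe hAN).symm).exists_le_sylow
  obtain ⟨S', hS'⟩ := (P.2.map N.subtype).exists_le_sylow
  have hA' : Ab S' A := hA.of_le fun x hx => hS' ⟨⟨x, hAN hx⟩, hP hx, rfl⟩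
  have hcl : IsStronglyClosed ((A.subgroupOf N).map f) ((P.mapSurjective (QuotientGroup.mk'_surjective Z) :
      Sylow 2 (↥N ⧸ Z)) : Subgroup (↥N ⧸ Z)) := by
    refine ⟨map_mono hP, ?_⟩
    rintro _ ⟨x, hx, rfl⟩ q hq
    obtain ⟨w, rfl⟩ := QuotientGroup.mk'_surjective Z q
    obtain ⟨t, ht, hte⟩ := hq
    rw [← map_inv, ← map_mul, ← map_mul] at hte ⊢
    refine ⟨w * x * w⁻¹, hA'.closed.2 (x : M) hx (w : M) ?_, rfl⟩
    obtain ⟨z, hz, hze⟩ := QuotientGroup.eq.mp hte
    have h1 : (z : M) ∈ (S' : Subgroup M) := hM.center_le_sylow S' hE ⟨z, hz, rfl⟩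
    have h2 : w * x * w⁻¹ = t * inclusion hEN z := by rw [hze, mul_inv_cancel_left]
    show ((w * x * w⁻¹ : ↥N) : M) ∈ _
    rw [h2]
    exact mul_mem (hS' ⟨t, ht, rfl⟩) h1
  set g : ↥E →* ↥N ⧸ Z := f.comp (inclusion hEN) with hg
  have hgk : g.ker = center ↥E := by
    ext x
    rw [MonoidHom.mem_ker, hg, MonoidHom.comp_apply, hf, QuotientGroup.mk'_apply, QuotientGroup.eq_one_iff]
    exact ⟨fun ⟨z, hz, e⟩ => inclusion_injective hEN e ▸ hz, fun h => ⟨x, h, rfl⟩⟩
  let eH : ↥E ⧸ center ↥E ≃* g.range :=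
    (QuotientGroup.quotientMulEquivOfEq hgk.symm).trans (QuotientGroup.quotientKerEquivRange g)
  haveI : IsSimpleGroup g.range := eH.symm.isSimpleGroup
  have hO : oddCore g.range = ⊥ := CfsgLib.CyclicInt.pPrimeCore_eq_bot fun h => component_not_comm hE
    ⟨⟨fun x y => eH.injective (by rw [map_mul, map_mul]; exact h.1.comm _ _)⟩⟩
  have hnorm : (A.subgroupOf N).map f ≤ normalizer (g.range : Set (↥N ⧸ Z)) := by
    rintro _ ⟨a, -, rfl⟩
    refine mem_normalizer_of_maps ?_
    rintro _ ⟨e, rfl⟩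
    refine ⟨(E.normalizerMonoidHom a) e, ?_⟩
    show f (inclusion hEN ((E.normalizerMonoidHom a) e)) = f a * f (inclusion hEN e) * (f a)⁻¹
    rw [← map_inv, ← map_mul, ← map_mul]
    exact congrArg f (Subtype.ext rfl)
  have hdisj : (A.subgroupOf N).map f ⊓ g.range = ⊥ := by
    refine (eq_bot_iff_forall _).mpr ?_
    rintro _ ⟨⟨a, ha, rfl⟩, e, he⟩
    obtain ⟨z, hz, hze⟩ := QuotientGroup.eq.mp he
    have hae : (a : M) = (e : M) * z := by
      have := congrArg Subtype.val hze
      simp only [coe_mul, coe_inclusion, InvMemClass.coe_inv] at this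
      rw [this, mul_inv_cancel_left]
    have hc : e * z ∈ center ↥E := hcon (e * z) (by rw [coe_mul, ← hae]; exact ha)
    exact (QuotientGroup.eq_one_iff a).mpr ⟨e * z, hc, Subtype.ext hae.symm⟩
  have hcen := Cfsg.Agent.S1251.result _ _ hcl g.range hnorm hO hdisj
  refine hne fun a ha => centralizes_of_actQ hE (hAN ha) (MulEquiv.ext fun r => ?_)
  obtain ⟨e, rfl⟩ := QuotientGroup.mk'_surjective _ r
  rw [actQ_apply, MulAut.one_apply]
  refine eH.injective ?_
  refine Subtype.ext ?_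
  show f (inclusion hEN ⟨a * e * a⁻¹, _⟩) = f (inclusion hEN e)
  have h1 := hcen ⟨⟨a, hAN ha⟩, ha, rfl⟩ (g e) ⟨e, rfl⟩
  rw [hg, MonoidHom.comp_apply] at h1
  rw [show inclusion hEN (⟨a * e * a⁻¹, (mem_normalizer_iff.mp (hAN ha) _).mp e.2⟩ : ↥E) =
    (⟨a, hAN ha⟩ : ↥N) * inclusion hEN e * (⟨a, hAN ha⟩ : ↥N)⁻¹ from Subtype.ext rfl, map_mul, map_mul, map_inv,
    ← h1, mul_inv_cancel_right]

/-- In a perfect group the central elements of a Sylow subgroup lie in its derived subgroup (transfer). -/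
theorem central_mem_commutator {X : Type u} [Group X] [Finite X] (hX : commutator X = ⊤) (P : Sylow 2 X) {z : X}
    (hz : z ∈ center X) (hzP : z ∈ (P : Subgroup X)) : (⟨z, hzP⟩ : ↥(P : Subgroup X)) ∈ commutator ↥(P : Subgroup X) := by
  classical
  haveI : Fact (Nat.Prime 2) := ⟨Nat.prime_two⟩
  let φ : ↥(P : Subgroup X) →* Abelianization ↥(P : Subgroup X) := Abelianization.of
  have key : ∀ (k : ℕ) (g₀ : X), g₀⁻¹ * z ^ k * g₀ ∈ (P : Subgroup X) → g₀⁻¹ * z ^ k * g₀ = z ^ k := fun k g₀ _ => by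
    rw [mul_assoc, ← mem_center_iff.mp (pow_mem hz k) g₀, inv_mul_cancel_left]
  have h1 := MonoidHom.transfer_eq_pow φ z key
  have h2 : MonoidHom.transfer φ z = 1 := by
    have hle : commutator X ≤ (MonoidHom.transfer φ).ker := Abelianization.commutator_subset_ker _
    exact MonoidHom.mem_ker.mp (hle (hX ▸ mem_top z))
  rw [h2] at h1
  have h3 : (⟨z, hzP⟩ : ↥(P : Subgroup X)) ^ (P : Subgroup X).index ∈ commutator ↥(P : Subgroup X) := by
    rw [← Abelianization.ker_of, MonoidHom.mem_ker]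
    exact (congrArg φ (Subtype.ext (by simp))).trans h1.symm
  obtain ⟨k, hk⟩ := P.2 ⟨z, hzP⟩
  have hco : (orderOf (⟨z, hzP⟩ : ↥(P : Subgroup X))).Coprime (P : Subgroup X).index :=
    ((Nat.prime_two.coprime_iff_not_dvd.mpr P.not_dvd_index).pow_left k).coprime_dvd_left (orderOf_dvd_of_pow_eq_one hk)
  obtain ⟨m, hm⟩ := exists_pow_eq_self_of_coprime hco.symm
  rw [← hm]
  exact pow_mem h3 m

end CfsgLib.GoldStruct
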