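import Cfsg.Agent.Lib.Walter.Ab.Main
import Cfsg.Agent.Lib.Walter.Field
import Cfsg.Agent.Lib.Bender.ConsSimple
import Cfsg.Agent.Lib.E8Solv.Local
import Cfsg.Agent.S1644
import Cfsg.Agent.S0252
import Cfsg.Agent.S0253
import Cfsg.Prelude.Def_LocalEven
import Cfsg.Prelude.Def_Spor_J1

/-!
The listed simple groups are Goldschmidt groups (as in `GoldschmidtS4`, kept free of its heavier imports).
-/

set_option autoImplicit false
set_option linter.unusedSectionVars false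
set_option linter.style.haveILetI false

namespace CfsgLib.GoldStruct

open Cfsg Subgroup

universe u

local notation "PSL₂[" F "]" => Matrix.ProjectiveSpecialLinearGroup (Fin 2) F

variable {G : Type u} [Group G] [Finite G]

theorem psl_center {F : Type} [Field F] [Fintype F] (h2 : (2 : F) ≠ 0) (h4 : 4 ≤ Fintype.card F) :
    center PSL₂[F] = ⊥ := by
  haveI : IsSimpleGroup PSL₂[F] :=
    Matrix.ProjectiveSpecialLinearGroup.rank_two_simple (by rwa [Nat.card_eq_fintype_card])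
  refine ((inferInstance : (center PSL₂[F]).Normal).eq_bot_or_eq_top).resolve_right fun h => ?_
  obtain ⟨g, b, c, hA, -⟩ := CfsgLib.Walter.exists_fixed_A4 (F := F) h2
  have := mem_center_iff.mp (h ▸ mem_top b : b ∈ center _) g
  exact hA.bc (by rw [← hA.gb, this, mul_inv_cancel_right])

/-- A centraliser `2 × PSL₂(q)` is an internal direct product with `⟨t⟩`. -/
theorem exists_product {t : G} (ht : orderOf t = 2) {F : Type} [Field F] [Fintype F] (h2 : (2 : F) ≠ 0)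
    (h4 : 4 ≤ Fintype.card F) (e : centralizer ({t} : Set G) ≃* Multiplicative (ZMod 2) × PSL₂[F]) :
    ∃ K : Subgroup G, IsInternalDirectProduct (zpowers t) K (centralizer ({t} : Set G)) ∧
      Nonempty (K ≃* PSL₂[F]) := by
  set C := centralizer ({t} : Set G)
  let f : PSL₂[F] →* G := C.subtype.comp (e.symm.toMonoidHom.comp (MonoidHom.inr _ _))
  have hfi : Function.Injective f := fun a b h => (Prod.ext_iff.mp (e.symm.injective (Subtype.ext h))).2
  have htC : t ∈ C := mem_centralizer_singleton_iff.mpr rfl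
  have ht2 : (e ⟨t, htC⟩).2 = 1 := by
    rw [← mem_bot, ← psl_center h2 h4, mem_center_iff]
    intro x
    have hc : e.symm (1, x) * (⟨t, htC⟩ : C) = ⟨t, htC⟩ * e.symm (1, x) :=
      Subtype.ext (mem_centralizer_singleton_iff.mp (e.symm (1, x)).2)
    simpa using congrArg (fun w => (e w).2) hc
  have ht1 : (e ⟨t, htC⟩).1 ≠ 1 := fun h => by
    have h1 : t = 1 := congrArg Subtype.val (e.map_eq_one_iff.mp (Prod.ext h ht2))
    rw [h1, orderOf_one] at ht
    omega
  refine ⟨f.range, ⟨zpowers_le.mpr htC, ?_, ?_, ?_, ?_⟩, ⟨(MonoidHom.ofInjective hfi).symm⟩⟩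
  · rintro _ ⟨x, rfl⟩
    exact (e.symm (1, x)).2
  · rintro a ha _ ⟨x, rfl⟩
    obtain ⟨k, rfl⟩ := mem_zpowers_iff.mp ha
    exact ((show Commute t (f x) from (mem_centralizer_singleton_iff.mp (e.symm (1, x)).2).symm).zpow_left k).eq
  · refine (eq_bot_iff_forall _).mpr ?_
    rintro a ⟨ha, x, hx⟩
    rcases (E8Solv.mem_zpowers_invol ht).mp ha with h | h
    · exact h
    · have h1 : e.symm (1, x) = ⟨t, htC⟩ := Subtype.ext (hx.trans h)
      exact absurd (by rw [← h1]; simp) ht1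
  · refine le_antisymm (sup_le (zpowers_le.mpr htC) ?_) fun c hc => ?_
    · rintro _ ⟨x, rfl⟩
      exact (e.symm (1, x)).2
    have hmem : (e.symm (1, (e ⟨c, hc⟩).2) : G) ∈ zpowers t ⊔ f.range := mem_sup_right ⟨_, rfl⟩
    by_cases h : (e ⟨c, hc⟩).1 = 1
    · rwa [show e.symm (1, (e ⟨c, hc⟩).2) = ⟨c, hc⟩ from e.symm_apply_eq.mpr (Prod.ext h.symm rfl)] at hmem
    · have h1 : (e ⟨c, hc⟩).1 = (e ⟨t, htC⟩).1 := by
        revert h ht1
        generalize (e ⟨c, hc⟩).1 = a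
        generalize (e ⟨t, htC⟩).1 = b
        revert a b
        decide
      have e1 : (⟨t, htC⟩ : C) * e.symm (1, (e ⟨c, hc⟩).2) = ⟨c, hc⟩ := e.injective (by
        rw [map_mul, e.apply_symm_apply]
        exact Prod.ext ((mul_one _).trans h1.symm) (by rw [Prod.snd_mul, ht2, one_mul]))
      rw [← show t * (e.symm (1, (e ⟨c, hc⟩).2) : G) = c from congrArg Subtype.val e1]
      exact mul_mem (mem_sup_left (mem_zpowers t)) hmem

/-- `PSL₂(4) ≅ PSL₂(5)` is on the list. -/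
theorem goldschmidt_psl_two {F : Type} [Field F] [Fintype F] {n : ℕ} (hn : 2 ≤ n) (hF : Fintype.card F = 2 ^ n)
    (e : G ≃* PSL₂[F]) : IsGoldschmidtGroup G := by
  rcases hn.eq_or_lt with rfl | h3
  · haveI : Fact (Nat.Prime 5) := ⟨by norm_num⟩
    obtain ⟨e4⟩ := Cfsg.Agent.S0252.result (F := F) (by rw [hF]; norm_num)
    obtain ⟨e5⟩ := Cfsg.Agent.S0253.result (F := ZMod 5) (ZMod.card 5)
    exact Or.inr (Or.inr (Or.inr (Or.inr (Or.inl ⟨ZMod 5, inferInstance, inferInstance, 5, ZMod.card 5, le_rfl,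
      Or.inr (by norm_num), ⟨e.trans (e4.trans e5.symm)⟩⟩))))
  · exact Or.inr (Or.inl ⟨F, inferInstance, inferInstance, n, h3, hF, ⟨e⟩⟩)

/-- The list of simple groups with abelian Sylow 2-subgroups consists of Goldschmidt groups. -/
theorem goldschmidt_of_listed [IsSimpleGroup G] (hna : ¬ IsMulCommutative G)
    (hab : ∀ P : Sylow 2 G, IsMulCommutative (P : Subgroup G)) (hl : WalterAb.Listed G) : IsGoldschmidtGroup G := by
  haveI : Fact (Nat.Prime 2) := ⟨Nat.prime_two⟩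
  rcases hl with ⟨F, i1, i2, ⟨hq, h5⟩ | ⟨n, hn, hF⟩, ⟨e⟩⟩ | hJ
  · exact Or.inr (Or.inr (Or.inr (Or.inr (Or.inl ⟨F, i1, i2, _, rfl, h5, hq, ⟨e⟩⟩))))
  · exact goldschmidt_psl_two hn hF e
  obtain ⟨T⟩ : Nonempty (Sylow 2 G) := inferInstance
  obtain ⟨t, htT, ht1⟩ : ∃ t ∈ (T : Subgroup G), t ≠ 1 :=
    (bot_or_exists_ne_one _).resolve_left fun e => by
      have := (hJ.1 T).1; rw [e, card_bot] at this; omega
  have ht : orderOf t = 2 := orderOf_eq_prime (by rw [pow_two]; exact (hJ.1 T).2 t htT) ht1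
  obtain ⟨F, i1, i2, hF, ⟨e⟩⟩ := hJ.2 t ht
  rcases hF with h5 | ⟨m, hm, hF⟩
  · obtain ⟨e5⟩ := Cfsg.Agent.S0253.result (F := F) h5
    exact Or.inr (Or.inr (Or.inr (Or.inr (Or.inr
      (Cfsg.Agent.S1644.result T (hab T) (hJ.1 T).1 t ht (e.trans (MulEquiv.prodCongr (MulEquiv.refl _) e5)))))))
  refine Or.inl ⟨inferInstance, hna, t, ?_⟩
  haveI : Fact (Nat.Prime 3) := ⟨Nat.prime_three⟩
  haveI : CharP F 3 := charP_of_card_eq_prime_pow hF
  have h2 : (2 : F) ≠ 0 := fun h => by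
    have h' : ((2 : ℕ) : F) = 0 := by exact_mod_cast h
    rw [CharP.cast_eq_zero_iff F 3] at h'
    norm_num at h'
  have h4 : 4 ≤ Fintype.card F := by
    rw [hF]
    calc 4 ≤ 3 ^ 3 := by norm_num
      _ ≤ 3 ^ (2 * m + 1) := Nat.pow_le_pow_right (by norm_num) (by omega)
  obtain ⟨K, hK, eK⟩ := exists_product ht h2 h4 e
  refine ⟨K, m, hm, ht, ?_, hK, F, i1, i2, hF, eK⟩
  refine Odd.of_dvd_nat (Nat.odd_iff.mpr (Nat.two_dvd_ne_zero.mp T.not_dvd_index))
    (index_dvd_of_le fun x hx => mem_centralizer_singleton_iff.mpr ?_)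
  exact congrArg Subtype.val ((hab T).1.comm ⟨x, hx⟩ ⟨t, htT⟩)

/-- A group with a strongly embedded subgroup on Bender's list is a Goldschmidt group. -/
theorem goldschmidt_of_bender (h : CfsgLib.Bender.IsBenderGroup G) : IsGoldschmidtGroup G := by
  rcases h with ⟨F, i1, i2, ⟨n, hn, hF⟩, ⟨e⟩⟩ | hs | ⟨F, i1, i2, n, hn, hF, e⟩
  · exact goldschmidt_psl_two hn hF e
  · exact Or.inr (Or.inr (Or.inl hs))
  · refine Or.inr (Or.inr (Or.inr (Or.inl ⟨F, i1, i2, n, hn, ?_, e⟩)))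
    rw [hF, show (4 : ℕ) = 2 ^ 2 from rfl, ← pow_mul, ← pow_mul, mul_comm]

end CfsgLib.GoldStruct
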