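import Cfsg.Agent.Lib.GoldStruct.U3Inner
import Cfsg.Agent.Lib.GoldSC.Main
import Cfsg.Agent.Lib.GoldStruct.Families
import Cfsg.Agent.S2089

/-!
The simple groups with a non-trivial strongly closed abelian 2-subgroup: what the structure of the groups generated
by such a subgroup needs from them.
-/

set_option autoImplicit false
set_option linter.unusedSectionVars false
set_option linter.style.haveILetI false

namespace CfsgLib.GoldStruct

open Cfsg Subgroup

universe u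

variable {K : Type u} [Group K] [Finite K]

/-- No perfect central extension by a 2-group. -/
def NoCover (K : Type u) [Group K] : Prop :=
  ∀ (Γ : Type u) [Group Γ] [Finite Γ] (σ : Γ →* K), IsStemExtension σ → IsPGroup 2 σ.ker → σ.ker = ⊥

/-- The shape of a Sylow 2-subgroup that controls its covers. -/
def CoverCase (T : Sylow 2 K) : Prop :=
  (∀ x ∈ (T : Subgroup K), x * x = 1) ∨
    ((∀ s ∈ (T : Subgroup K), ∀ t ∈ (T : Subgroup K), s * s = t * t → s⁻¹ * t * (s⁻¹ * t) = 1) ∧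
      8 ≤ Nat.card {x : K // x ∈ (T : Subgroup K) ∧ x * x = 1}) ∨
    NoCover K

/-- The properties. -/
structure Fine (T : Sylow 2 K) : Prop where
  loc : GoldSC.Local T
  sq : ∀ t ∈ (T : Subgroup K), t * t * (t * t) = 1
  pinned : ∀ A0 : Subgroup K, A0 ≤ (T : Subgroup K) → (∀ a ∈ A0, ∀ b ∈ A0, a * b = b * a) →
    (∀ k ∈ normalizer ((T : Subgroup K) : Set K), ∀ a ∈ A0, k * a * k⁻¹ ∈ A0) → ∀ a ∈ A0, a * a = 1
  inner : ∀ (φ : MulAut K) (q : K), q ∈ (T : Subgroup K) → q * q = 1 → φ * φ = MulAut.conj q →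
    (∀ x ∈ (T : Subgroup K), x * x = 1 → φ x = x) →
    (∀ x ∈ (T : Subgroup K), φ x * x⁻¹ ∈ (T : Subgroup K) ∧ φ x * x⁻¹ * (φ x * x⁻¹) = 1) →
    ∃ s ∈ (T : Subgroup K), φ = MulAut.conj s
  cover : CoverCase T
  ct : ∀ a ∈ (T : Subgroup K), a * a ≠ 1 → ∀ b ∈ (T : Subgroup K), ∀ c ∈ (T : Subgroup K),
    a * b = b * a → a * c = c * a → b * c = c * b

variable [IsSimpleGroup K]

theorem fine_listed (hl : WalterAb.Listed K) (T : Sylow 2 K) : Fine T := by
  have hg := hl.good T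
  refine ⟨GoldSC.local_listed hl T, fun t ht => by rw [hg.selfCent.sq t ht, one_mul],
    fun A0 hle _ _ a ha => hg.selfCent.sq a (hle ha), fun φ q _ hq2 h2 hfix _ => ?_, Or.inl hg.selfCent.sq,
    fun a ha ha2 => absurd (hg.selfCent.sq a ha) ha2⟩
  refine hg.inner φ 2 ?_ fun x hx => hfix x hx (hg.selfCent.sq x hx)
  rw [show (2 : ℕ) ^ 2 = 2 * 2 from rfl, pow_mul, pow_two φ, h2, pow_two, ← map_mul, hq2, map_one]

theorem fine_suzuki (hs : Cfsg.Lie.IsoSuzuki K) (T : Sylow 2 K) : Fine T := by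
  haveI : Fact (Nat.Prime 2) := ⟨Nat.prime_two⟩
  have hloc := GoldSC.local_suzuki hs T
  obtain ⟨k, hk⟩ := S3Simple.exists_twoLocal (Or.inl hs : Cfsg.IsSuzukiOrPSL2OddPowerThree K) T
  have hnab := S3Simple.suzuki_sylow hs T
  obtain ⟨F, i1, i2, m, hm, hc, ⟨e0⟩⟩ := hs
  let e := e0.trans (Suzuki.lieEquiv hc hm).symm
  obtain ⟨f, hf⟩ := S3Simple.exists_map_sylow e T _ (Suzuki.U_isPGroup hc) (Suzuki.not_two_dvd_index_U hc hm)
  have hmem : ∀ x ∈ (T : Subgroup K), ∃ a b, x = f (Suzuki.uS hc a b) := by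
    rw [← hf]
    rintro _ ⟨u, ⟨a, b, rfl⟩, rfl⟩
    exact ⟨a, b, rfl⟩
  have hinj : ∀ a b : F, Suzuki.th m a * a = Suzuki.th m b * b → a = b := by
    intro a b h
    rcases eq_or_ne b 0 with rfl | hb
    · rw [mul_zero] at h
      exact (mul_eq_zero.mp h).elim Suzuki.th_eq_zero_iff.mp id
    set r := a / b with hr
    have h0 : Suzuki.th m b * b ≠ 0 := mul_ne_zero (fun e => hb (Suzuki.th_eq_zero_iff.mp e)) hb
    have h1 : Suzuki.th m r * r = 1 := by rw [hr, Suzuki.th_div, div_mul_div_comm, h, div_self h0]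
    have h2 : Suzuki.th m r = r⁻¹ := eq_inv_of_mul_eq_one_left h1
    have h3 := Suzuki.th_th hc r
    rw [h2, Suzuki.th_inv, h2, inv_inv, pow_two] at h3
    have hr0 : r ≠ 0 := right_ne_zero_of_mul_eq_one h1
    have h4 : r = 1 := mul_left_cancel₀ hr0 (by rw [← h3, mul_one])
    rwa [hr, div_eq_one_iff_eq hb] at h4
  have hsq : ∀ t ∈ (T : Subgroup K), t * t * (t * t) = 1 := fun t ht => by
    obtain ⟨a, b, rfl⟩ := hmem t ht
    rw [← map_mul, Suzuki.uS_sq, ← map_mul, Suzuki.uS_sq, mul_zero, Suzuki.uS_zero, map_one]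
  have hsi : ∀ s ∈ (T : Subgroup K), ∀ t ∈ (T : Subgroup K), s * s = t * t → s⁻¹ * t * (s⁻¹ * t) = 1 := by
    intro s hs t ht h
    obtain ⟨a, b, rfl⟩ := hmem s hs
    obtain ⟨c, d, rfl⟩ := hmem t ht
    rw [← map_mul, ← map_mul, Suzuki.uS_sq, Suzuki.uS_sq] at h
    obtain rfl := hinj a c (Suzuki.uS_inj hc (f.injective h)).2
    rw [← map_inv, ← map_mul, ← map_mul, Suzuki.uS_inv, Suzuki.uS_mul, Suzuki.uS_sq]
    haveI := Suzuki.charTwo hc
    rw [CharTwo.add_self_eq_zero, mul_zero, Suzuki.uS_zero, map_one]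
  refine ⟨hloc, hsq, fun A0 hle hcomm hnorm => ?_, fun φ q _ hq2 h2 hfix _ => ?_, Or.inr (Or.inl ⟨hsi, ?_⟩), ?_⟩
  rotate_right
  · intro a ha ha2 b hb c' hc' hab hac
    obtain ⟨x, x', rfl⟩ := hmem a ha
    obtain ⟨y, y', rfl⟩ := hmem b hb
    obtain ⟨z, z', rfl⟩ := hmem c' hc'
    have hx : x ≠ 0 := fun h => ha2 (by
      rw [h, ← map_mul, Suzuki.uS_sq, mul_zero, Suzuki.uS_zero, map_one])
    have key : ∀ {u u' : F}, f (Suzuki.uS hc x x') * f (Suzuki.uS hc u u') = f (Suzuki.uS hc u u') * f (Suzuki.uS hc x x') →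
        u = 0 ∨ u = x := by
      intro u u' h
      rw [← map_mul, ← map_mul, Suzuki.uS_mul, Suzuki.uS_mul] at h
      have h' := (Suzuki.uS_inj hc (f.injective h)).2
      have h1 : Suzuki.th m x * u = Suzuki.th m u * x := by linear_combination h'
      by_cases hu : u = 0
      · exact Or.inl hu
      right
      have hr : Suzuki.th m (u / x) = u / x := by
        rw [Suzuki.th_div, div_eq_div_iff (fun e => hx (Suzuki.th_eq_zero_iff.mp e)) hx]
        linear_combination -h1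
      have h2 := Suzuki.th_th hc (u / x)
      rw [hr, hr, pow_two] at h2
      have h3 : u / x = 1 := (mul_eq_left₀ (div_ne_zero hu hx)).mp h2.symm
      rwa [div_eq_one_iff_eq hx] at h3
    rw [← map_mul, ← map_mul, Suzuki.uS_mul, Suzuki.uS_mul]
    rcases key hab with rfl | rfl <;> rcases key hac with rfl | rfl <;>
      exact congrArg f (congrArg₂ (Suzuki.uS hc) (add_comm _ _) (by simp [add_comm, add_left_comm]))
  · intro a ha
    by_contra ha2
    have hn : ∀ i : ℕ, k ^ i ∈ normalizer ((T : Subgroup K) : Set K) := fun i =>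
      pow_mem (mem_normalizer_iff.mpr fun x => (hk.norm x).symm) i
    have hV : ∀ x ∈ (T : Subgroup K), x * x = 1 → x ∈ A0 := fun x hx hx2 => by
      rcases eq_or_ne x 1 with rfl | hx1
      · exact one_mem _
      obtain ⟨i, hi⟩ := hk.trans (a * a) (hle (mul_mem ha ha)) (hsq a (hle ha)) ha2 x hx hx2 hx1
      exact hi ▸ hnorm _ (hn i) _ (mul_mem ha ha)
    refine hnab ⟨⟨fun x y => Subtype.ext ?_⟩⟩
    have hT : ∀ t ∈ (T : Subgroup K), t ∈ A0 := fun t ht => by
      by_cases ht2 : t * t = 1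
      · exact hV t ht ht2
      obtain ⟨i, hi⟩ := hk.trans (a * a) (hle (mul_mem ha ha)) (hsq a (hle ha)) ha2 (t * t) (mul_mem ht ht)
        (hsq t ht) ht2
      have ha' := hnorm _ (hn i) a ha
      have h2 := hsi _ (hle ha') t ht (by rw [← hi]; group)
      have := mul_mem ha' (hV _ (mul_mem (inv_mem (hle ha')) ht) h2)
      rwa [mul_inv_cancel_left] at this
    exact hcomm _ (hT x x.2) _ (hT y y.2)
  · obtain ⟨j, -, hj⟩ := (Nat.dvd_prime_pow Nat.prime_two).mp (orderOf_dvd_of_pow_eq_one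
      (show MulAut.congr e φ ^ 2 ^ 2 = 1 by
        rw [← map_pow, show (2 : ℕ) ^ 2 = 2 * 2 from rfl, pow_mul, pow_two φ, h2, pow_two, ← map_mul MulAut.conj, hq2,
          map_one, map_one]))
    obtain ⟨g, hg⟩ := S3Simple.SzModel.inner_of_two hc hm (MulAut.congr e φ) hj
    have hφ : φ = MulAut.conj (e.symm g) := (MulAut.congr e).injective (by
      rw [WalterAb.congr_conj, MulEquiv.apply_symm_apply, hg])
    refine ⟨_, hk.cent _ fun y hy hy2 => ?_, hφ⟩
    have := hfix y hy hy2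
    rwa [hφ, MulAut.conj_apply, mul_inv_eq_iff_eq_mul] at this
  · have hi : Function.Injective fun b : F => (⟨f (Suzuki.uS hc 0 b), hf ▸ mem_map_of_mem _ ⟨0, b, rfl⟩,
        by rw [← map_mul, Suzuki.uS_sq, mul_zero, Suzuki.uS_zero, map_one]⟩ :
        {x : K // x ∈ (T : Subgroup K) ∧ x * x = 1}) :=
      fun b d h => (Suzuki.uS_inj hc (f.injective (congrArg Subtype.val h))).2
    refine le_trans ?_ (Nat.card_le_card_of_injective _ hi)
    rw [Nat.card_eq_fintype_card, hc]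
    exact le_trans (by norm_num : 8 ≤ 2 ^ 3) (Nat.pow_le_pow_right two_pos (by omega))

theorem noCover_u3 (h : GoldSC.IsU3 K) : NoCover K := by
  haveI : Fact (Nat.Prime 2) := ⟨Nat.prime_two⟩
  obtain ⟨F, i1, i2, n, hn, hF, ⟨e⟩⟩ := h
  intro Γ _ _ σ hσ h2
  have h4 : 2 ^ 2 ≤ 2 ^ n := Nat.pow_le_pow_right two_pos hn
  have hm := Cfsg.Agent.S2089.result (F := F) 3 (2 ^ n) hF le_rfl (by omega) (by
    simp only [Set.mem_insert_iff, Set.mem_singleton_iff, Prod.mk.injEq, not_or]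
    omega)
  -- move to a group in the universe of the field
  haveI : Finite (Shrink.{0} Γ) := Finite.of_equiv Γ (equivShrink.{0} Γ)
  let eG : Shrink.{0} Γ ≃* Γ := Shrink.mulEquiv
  let τ : Shrink.{0} Γ →* Cfsg.PSU 3 F (2 ^ n) := e.toMonoidHom.comp (σ.comp eG.toMonoidHom)
  have hker : τ.ker = σ.ker.map eG.symm.toMonoidHom := by
    ext x
    rw [mem_map_equiv, MulEquiv.symm_symm, MonoidHom.mem_ker, MonoidHom.mem_ker]
    exact ⟨fun h => e.map_eq_one_iff.mp h, fun h => e.map_eq_one_iff.mpr h⟩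
  have hz : τ.ker ≤ center (Shrink.{0} Γ) := by
    rw [hker]
    rintro _ ⟨x, hx, rfl⟩
    exact mem_center_iff.mpr fun y => eG.injective (by
      simpa using mem_center_iff.mp (hσ.2.1 hx) (eG y))
  have hd' : τ.ker ≤ commutator (Shrink.{0} Γ) := by
    rw [hker]
    refine (map_mono hσ.2.2).trans ?_
    rw [commutator_def, Subgroup.map_commutator, commutator_def]
    exact Subgroup.commutator_mono le_top le_top
  obtain ⟨π, hπ⟩ := hm.2 (Shrink.{0} Γ) τ ⟨e.surjective.comp (hσ.1.comp eG.surjective), hz, hd'⟩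
  have hp : IsPGroup 2 τ.ker := hker ▸ h2.map _
  obtain ⟨j, hj⟩ := IsPGroup.iff_card.mp hp
  have hd : Nat.card τ.ker ∣ Nat.gcd 3 (2 ^ n + 1) := by
    refine dvd_trans (card_dvd_of_surjective π hπ) (dvd_of_eq ?_)
    rw [Nat.card_congr Multiplicative.toAdd, Nat.card_zmod]
  have h3 : 2 ^ j ∣ 3 := (hj ▸ hd).trans (Nat.gcd_dvd_left _ _)
  have hj0 : j = 0 := Nat.eq_zero_of_not_pos fun hj0 => absurd ((dvd_pow_self 2 hj0.ne').trans h3) (by norm_num)
  rw [hj0, pow_zero] at hj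
  rw [card_eq_one, hker] at hj
  exact (map_eq_bot_iff_of_injective _ eG.symm.injective).mp hj

theorem fine_u3 (h : GoldSC.IsU3 K) (T : Sylow 2 K) : Fine T := by
  haveI : Fact (Nat.Prime 2) := ⟨Nat.prime_two⟩
  have hno := noCover_u3 h
  have hloc := GoldSC.local_u3 h T
  obtain ⟨F, i1, i2, i3, c, hq, i4, hr, hi, ⟨e⟩⟩ := GoldSC.exists_model_u3 h
  obtain ⟨T0, hT0, -, -⟩ := BinaryCoset.exists_sylow_model c
  haveI : Finite (GoldSC.LU3.K₀ c) := Finite.of_equiv K e.toEquiv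
  obtain ⟨f, hf⟩ := S3Simple.exists_map_sylow e T _ (hT0 ▸ T0.2) (hT0 ▸ T0.not_dvd_index)
  have mem : ∀ {x}, x ∈ (T : Subgroup K) ↔ f.symm x ∈ GoldSC.LU3.TT c := fun {x} => by
    rw [← hf]; exact mem_map_equiv
  have hs : ∀ {x : K}, x * x = 1 → f.symm x * f.symm x = 1 := fun hx => by rw [← map_mul, hx, map_one]
  obtain ⟨g, h, hTor⟩ := GoldSC.LU3.exists_torus c hq
  refine ⟨hloc, fun t ht => f.symm.injective (by
    rw [map_mul, map_mul, map_one]; exact GoldSC.LU3.sq_mem c _ (mem.mp ht)), fun A0 hle hcomm hnorm a ha => ?_,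
    fun φ q hq' hq2 h2 hfix hd => ?_, Or.inr (Or.inr hno), fun a ha ha2 b hb c' hc' hab hac => ?_⟩
  · have hhN : f h ∈ normalizer ((T : Subgroup K) : Set K) := by
      have hh : h ∈ normalizer (GoldSC.LU3.TT c : Set (GoldSC.LU3.K₀ c)) := by
        obtain ⟨i, rfl⟩ := hTor.pow
        exact pow_mem hTor.norm i
      refine mem_normalizer_iff.mpr fun x => ?_
      rw [mem, mem, map_mul, map_mul, map_inv, MulEquiv.symm_apply_apply]
      exact mem_normalizer_iff.mp hh _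
    have hb := hnorm _ hhN a ha
    have hfix : f h * (a * a) * (f h)⁻¹ = a * a := by
      apply f.symm.injective
      simp only [map_mul, map_inv, MulEquiv.symm_apply_apply]
      exact hTor.cent _ (mul_mem (mem.mp (hle ha)) (mem.mp (hle ha))) (GoldSC.LU3.sq_mem c _ (mem.mp (hle ha)))
    have hd : a⁻¹ * (f h * a * (f h)⁻¹) * (a⁻¹ * (f h * a * (f h)⁻¹)) = 1 := by
      calc a⁻¹ * (f h * a * (f h)⁻¹) * (a⁻¹ * (f h * a * (f h)⁻¹))
          = a⁻¹ * ((f h * a * (f h)⁻¹) * a⁻¹) * (f h * a * (f h)⁻¹) := by group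
        _ = a⁻¹ * (a⁻¹ * (f h * a * (f h)⁻¹)) * (f h * a * (f h)⁻¹) := by rw [hcomm _ hb _ (inv_mem ha)]
        _ = (a * a)⁻¹ * (f h * (a * a) * (f h)⁻¹) := by group
        _ = 1 := by rw [hfix, inv_mul_cancel]
    have h1 := congrArg f.symm hd
    simp only [map_mul, map_inv, map_one, MulEquiv.symm_apply_apply] at h1
    have h2 := U3.eq_one_of_fixed c hTor (mem.mp (hle ha)) h1
    exact f.symm.injective (by rw [map_mul, h2, map_one])
  · have hC : ∀ x, MulAut.congr f.symm φ (f.symm x) = f.symm (φ x) := fun x => WalterAb.congr_apply_map _ _ _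
    obtain ⟨s, hs', hφ⟩ := U3.inner_four c hq hT0 hi (MulAut.congr f.symm φ) (q := f.symm q) (mem.mp hq') (hs hq2)
      (by rw [← map_mul, h2, WalterAb.congr_conj])
      (fun x hx hx2 => by
        obtain ⟨y, rfl⟩ := f.symm.surjective x
        rw [hC, hfix y (mem.mpr hx) (f.symm.injective (by rw [map_mul, map_one]; exact hx2))])
      (fun x hx => by
        obtain ⟨y, rfl⟩ := f.symm.surjective x
        obtain ⟨d1, d2⟩ := hd y (mem.mpr hx)
        rw [hC, ← map_inv, ← map_mul]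
        exact ⟨mem.mp d1, hs d2⟩)
    exact ⟨f s, mem.mpr (by rwa [MulEquiv.symm_apply_apply]), (MulAut.congr f.symm).injective (by
      rw [hφ, WalterAb.congr_conj, MulEquiv.symm_apply_apply])⟩
  · let w : ∀ {x : K}, x ∈ (T : Subgroup K) → GoldSC.LU3.TT c := fun {x} hx => ⟨f.symm x, mem.mp hx⟩
    let κ : GoldSC.LU3.TT c → F := fun t => ((GoldSC.LU3.modelU c).κ ((GoldSC.LU3.eT c).symm t)).1
    have hcm : ∀ {x y : K} (hx : x ∈ (T : Subgroup K)) (hy : y ∈ (T : Subgroup K)),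
        x * y = y * x ↔ κ (w hx) * c.σ (κ (w hy)) = κ (w hy) * c.σ (κ (w hx)) := fun {x y} hx hy => by
      refine Iff.trans ?_ (CfsgLib.U3Type.commute_iff (GoldSC.LU3.modelU c) _ _)
      rw [← map_mul, ← map_mul, (GoldSC.LU3.eT c).symm.injective.eq_iff, Subtype.ext_iff, Subgroup.coe_mul,
        Subgroup.coe_mul, show ((w hx : GoldSC.LU3.TT c) : GoldSC.LU3.K₀ c) = f.symm x from rfl,
        show ((w hy : GoldSC.LU3.TT c) : GoldSC.LU3.K₀ c) = f.symm y from rfl, ← map_mul, ← map_mul,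
        f.symm.injective.eq_iff]
    have h0 : κ (w ha) ≠ 0 := fun h => ha2 (f.symm.injective (by
      rw [map_mul, map_one]
      have h1 := ((GoldSC.LU3.modelU c).sq_eq_one ((GoldSC.LU3.eT c).symm (w ha))).mpr h
      rw [← map_mul, map_eq_one_iff _ (GoldSC.LU3.eT c).symm.injective] at h1
      exact congrArg Subtype.val h1))
    refine (hcm hb hc').mpr (mul_right_cancel₀ (mul_ne_zero h0 ((map_ne_zero c.σ).mpr h0)) ?_)
    linear_combination (κ (w hb) * c.σ (κ (w ha))) * (hcm ha hc').mp hac -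
      (κ (w hc') * c.σ (κ (w ha))) * (hcm ha hb).mp hab

/-- A simple group with a non-trivial strongly closed abelian 2-subgroup. -/
theorem fine_of_closed (hna : ¬ IsMulCommutative K) (S : Sylow 2 K) (A : Subgroup K) (hA : A ≠ ⊥)
    (hc : IsMulCommutative A) (hcl : IsStronglyClosed A (S : Subgroup K)) :
    IsGoldschmidtGroup K ∧ ∀ T : Sylow 2 K, Fine T := by
  haveI : Fact (Nat.Prime 2) := ⟨Nat.prime_two⟩
  rcases GoldSC.main K inferInstance S A hA hc hcl with hab | ⟨H, hH⟩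
  · have habs : ∀ Q : Sylow 2 K, IsMulCommutative (Q : Subgroup K) := fun Q =>
      ⟨⟨fun x y => (Sylow.equiv S Q).symm.injective (by rw [map_mul, map_mul]; exact hab.1.comm _ _)⟩⟩
    have hl := WalterAb.listed_of_P (fun Y _ _ => CfsgLib.Walter.p_all Y) K inferInstance hna habs
    exact ⟨goldschmidt_of_listed hna habs hl, fine_listed hl⟩
  · have hb := Bender.isBenderGroup_of_stronglyEmbedded (Bender.Assembly.benderHyp Bender.Assembly.goodAll)
      Bender.Assembly.suzukiHyp hH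
    refine ⟨goldschmidt_of_bender hb, fun T => ?_⟩
    rcases hb with ⟨F, i1, i2, hc, e⟩ | h | h
    · exact fine_listed (Or.inl ⟨F, i1, i2, Or.inr hc, e⟩) T
    · exact fine_suzuki h T
    · exact fine_u3 h T

end CfsgLib.GoldStruct
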