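import Cfsg.Agent.Lib.GoldStruct.Basic
import Cfsg.Agent.Lib.GoldStruct.Fine

/-!
A component moved by an abelian strongly closed 2-subgroup `A`: its centre lies in `A`, `A` acts on it as elements of
`A` inside it, and these are involutions up to the centre.
-/

set_option autoImplicit false
set_option linter.unusedSectionVars false
set_option linter.style.haveILetI false

namespace CfsgLib.GoldStruct

open Cfsg Subgroup CfsgLib CfsgLib.Comp CfsgLib.GoldSC
open scoped commutatorElement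
open CfsgLib.S3Simple (actQ actQ_apply centralizes_of_actQ component_isSimple component_not_comm
  mem_normalizer_of_map_eq)

universe u

variable {M : Type u} [Group M] [Finite M]

/-- The facts on a component moved by `A`. -/
structure Blk (T : Sylow 2 M) (A E : Subgroup M) : Prop where
  gold : IsGoldschmidtGroup (↥E ⧸ center ↥E)
  center_le : (center ↥E).map E.subtype ≤ A
  act : ∀ a ∈ A, ∃ v ∈ A ⊓ E, a * v ∈ centralizer (E : Set M)
  invol : ∀ t ∈ (T : Subgroup M), t * t = 1 → (∃ e ∈ E, e⁻¹ * t ∈ centralizer (E : Set M)) →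
    ∃ v ∈ A ⊓ E, t * v ∈ centralizer (E : Set M)
  omega : ∀ v ∈ A ⊓ E, ∃ z ∈ (center ↥E).map E.subtype, v * z * (v * z) = 1

variable {T : Sylow 2 M} {A E : Subgroup M}

theorem actQ_conj {e : ↥E} (h : (e : M) ∈ normalizer (E : Set M)) :
    actQ E ⟨e, h⟩ = MulAut.conj (QuotientGroup.mk' (center ↥E) e) := by
  refine MulEquiv.ext fun r => ?_
  obtain ⟨x, rfl⟩ := QuotientGroup.mk'_surjective _ r
  rw [actQ_apply, MulAut.conj_apply, ← map_inv, ← map_mul, ← map_mul]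
  rfl

theorem exists_blk (hO : pPrimeCore 2 M = ⊥) (hA : Ab T A) (hE : IsComponent E)
    (hne : ¬ A ≤ centralizer (E : Set M)) : Blk T A E := by
  classical
  haveI : Fact (Nat.Prime 2) := ⟨Nat.prime_two⟩
  haveI := component_isSimple hE
  have hM : Ctx M := ⟨hO, fun Y _ _ _ => GoldSC.main Y⟩
  have hAE : A ≤ normalizer (E : Set M) := closed_normalizes hM hA hE
  have hEE : E ≤ normalizer (E : Set M) := le_normalizer
  set π := QuotientGroup.mk' (center ↥E) with hπ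
  obtain ⟨P, hP⟩ := CfsgLib.CharPLocal.exists_sylow_subnormal T hE.1
  let TQ : Sylow 2 (↥E ⧸ center ↥E) := P.mapSurjective (QuotientGroup.mk'_surjective _)
  have hPm : ∀ {e : ↥E}, e ∈ (P : Subgroup ↥E) ↔ (e : M) ∈ (T : Subgroup M) := fun {e} =>
    ⟨fun h => (hP.le (mem_map_of_mem E.subtype h)).1, fun h => by
      obtain ⟨e', he', hee⟩ := hP.ge ⟨h, e.2⟩
      exact (E.subtype_injective hee) ▸ he'⟩
  have hmem : ∀ {e : ↥E}, π e ∈ (TQ : Subgroup _) → e ∈ (P : Subgroup ↥E) := fun {e} h =>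
    hPm.mpr (hM.mem_sylow_of_image T hE hP h)
  have hZP : center ↥E ≤ (P : Subgroup ↥E) := fun z hz =>
    hPm.mpr (hM.center_le_sylow T hE (mem_map_of_mem E.subtype hz))
  have hmapP : ∀ {e : ↥E}, e ∈ (P : Subgroup ↥E) → π e ∈ (TQ : Subgroup _) := fun h => mem_map_of_mem _ h
  -- the elements of `A` in the component
  obtain ⟨e₀, he₀, he₀c⟩ := exists_inside hM hA hE hne
  set S0 : Subgroup (↥E ⧸ center ↥E) := (A.subgroupOf E).map π with hS0
  have hAP : ∀ {e : ↥E}, (e : M) ∈ A → e ∈ (P : Subgroup ↥E) := fun h => hPm.mpr (hA.le h)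
  have hconjA : ∀ {g e : ↥E}, (e : M) ∈ A → g * e * g⁻¹ ∈ (P : Subgroup ↥E) → ((g * e * g⁻¹ : ↥E) : M) ∈ A :=
    fun {g e} he hg => hA.closed.2 (e : M) he (g : M) (hPm.mp hg)
  have hcl : IsStronglyClosed S0 (TQ : Subgroup (↥E ⧸ center ↥E)) := by
    refine ⟨?_, ?_⟩
    · rintro _ ⟨e, he, rfl⟩; exact hmapP (hAP he)
    · rintro _ ⟨x, hx, rfl⟩ q hq
      obtain ⟨w, rfl⟩ := QuotientGroup.mk'_surjective _ q
      rw [← map_inv, ← map_mul, ← map_mul] at hq ⊢
      exact ⟨w * x * w⁻¹, hconjA hx (hmem hq), rfl⟩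
  obtain ⟨hgold, hfine⟩ := fine_of_closed (component_not_comm hE) TQ S0
    (fun h => he₀c ((QuotientGroup.eq_one_iff e₀).mp (mem_bot.mp (h ▸ mem_map_of_mem π (show e₀ ∈ A.subgroupOf E from he₀)))))
    ⟨⟨by
      rintro ⟨_, x, hx, rfl⟩ ⟨_, y, hy, rfl⟩
      refine Subtype.ext ?_
      show π x * π y = π y * π x
      rw [← map_mul, ← map_mul]
      exact congrArg _ (Subtype.ext (hA.comm hx hy))⟩⟩ hcl
  have hF := hfine TQ
  have hinj := conj_injective (K := ↥E ⧸ center ↥E) (component_not_comm hE)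
  -- the elements of the Sylow subgroup induced by `A`
  let At : Subgroup (↥E ⧸ center ↥E) :=
    { carrier := {q | q ∈ (TQ : Subgroup _) ∧ ∃ a, ∃ h : a ∈ A, actQ E ⟨a, hAE h⟩ = MulAut.conj q}
      one_mem' := ⟨one_mem _, 1, A.one_mem, by
        rw [map_one, show (⟨(1 : M), hAE A.one_mem⟩ : normalizer (E : Set M)) = 1 from rfl, map_one]⟩
      mul_mem' := by
        rintro x y ⟨hx, a, ha, ea⟩ ⟨hy, b, hb, eb⟩
        exact ⟨mul_mem hx hy, a * b, A.mul_mem ha hb, by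
          rw [map_mul, ← ea, ← eb, ← map_mul]; rfl⟩
      inv_mem' := by
        rintro x ⟨hx, a, ha, ea⟩
        exact ⟨inv_mem hx, a⁻¹, A.inv_mem ha, by rw [map_inv, ← ea, ← map_inv]; rfl⟩ }
  have hAEin : ∀ {e : ↥E}, (e : M) ∈ A → π e ∈ At := fun {e} he =>
    ⟨hmapP (hAP he), (e : M), he, actQ_conj (hAE he)⟩
  have hAt2 : ∀ q ∈ At, q * q = 1 := by
    refine hF.pinned At (fun q hq => hq.1) ?_ ?_
    · rintro x ⟨-, a, ha, ea⟩ y ⟨-, b, hb, eb⟩
      apply hinj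
      rw [map_mul, map_mul, ← ea, ← eb, ← map_mul, ← map_mul]
      exact congrArg _ (Subtype.ext (hA.comm ha hb))
    · rintro k hk q ⟨hq, a, ha, ea⟩
      obtain ⟨g, rfl⟩ := QuotientGroup.mk'_surjective _ k
      have hg : (g : M) * a * (g : M)⁻¹ * a⁻¹ ∈ E := by
        rw [mul_assoc (g : M), mul_assoc (g : M)]
        exact mul_mem g.2 ((mem_normalizer_iff.mp (hAE ha) _).mp (inv_mem g.2))
      have himg : π ⟨_, hg⟩ = π g * q * (π g)⁻¹ * q⁻¹ := by
        have h1 : (⟨(g : M) * a * (g : M)⁻¹ * a⁻¹, hg⟩ : ↥E) =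
            g * ⟨a * ((g⁻¹ : ↥E) : M) * a⁻¹, (mem_normalizer_iff.mp (hAE ha) _).mp (g⁻¹).2⟩ :=
          Subtype.ext (by simp [mul_assoc])
        rw [h1, map_mul, ← actQ_apply (x := ⟨a, hAE ha⟩), ea, MulAut.conj_apply, map_inv]
        group
        rfl
      have hT : (g : M) * a * (g : M)⁻¹ ∈ (T : Subgroup M) := by
        have h2 := hPm.mp (hmem (himg ▸ mul_mem ((mem_normalizer_iff.mp hk q).mp hq) (inv_mem hq) :
          π ⟨_, hg⟩ ∈ (TQ : Subgroup _)))
        have := mul_mem h2 (hA.le ha)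
        rwa [inv_mul_cancel_right] at this
      have ha' := hA.closed.2 a ha g hT
      refine ⟨(mem_normalizer_iff.mp hk q).mp hq, _, ha', ?_⟩
      have e1 : (⟨(g : M) * a * (g : M)⁻¹, hAE ha'⟩ : normalizer (E : Set M)) =
          ⟨(g : M), hEE g.2⟩ * ⟨a, hAE ha⟩ * ⟨(g : M), hEE g.2⟩⁻¹ := rfl
      rw [e1, map_mul, map_mul, map_inv, ea, actQ_conj (hEE g.2), map_mul, map_mul, map_inv]
  have hA2 : ∀ {e : ↥E}, (e : M) ∈ A → π e * π e = 1 := fun he => hAt2 _ (hAEin he)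
  obtain ⟨k0, hk0, htr⟩ := hF.loc.trans
  have hk0i : ∀ i : ℕ, k0 ^ i ∈ normalizer ((TQ : Subgroup (↥E ⧸ center ↥E)) : Set (↥E ⧸ center ↥E)) := fun i => pow_mem hk0 i
  have hVK : ∀ x ∈ (TQ : Subgroup (↥E ⧸ center ↥E)), x * x = 1 → ∃ e : ↥E, (e : M) ∈ A ∧ π e = x := by
    intro x hx hx2
    rcases eq_or_ne x 1 with rfl | hx1
    · exact ⟨1, A.one_mem, map_one π⟩
    obtain ⟨i, hi⟩ := htr (π e₀) (hmapP (hAP he₀)) (hA2 he₀) (fun h => he₀c ((QuotientGroup.eq_one_iff _).mp h))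
      x hx hx2 hx1
    obtain ⟨e, he, hee⟩ := hcl.2 (π e₀) ⟨e₀, he₀, rfl⟩ (k0 ^ i) (by rw [hi]; exact hx)
    exact ⟨e, he, hee.trans hi⟩
  -- every element of `A` induces an inner automorphism
  have hinner : ∀ (j : ℕ), ∀ a, ∀ ha : a ∈ A, a ^ 2 ^ j = 1 →
      ∃ q ∈ (TQ : Subgroup (↥E ⧸ center ↥E)), actQ E ⟨a, hAE ha⟩ = MulAut.conj q := by
    intro j
    induction j with
    | zero =>
      intro a ha h
      rw [pow_zero, pow_one] at h
      subst h
      exact ⟨1, one_mem _, by rw [map_one, show (⟨(1 : M), hAE ha⟩ : normalizer (E : Set M)) = 1 from rfl, map_one]⟩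
    | succ j ih =>
      intro a ha h
      obtain ⟨q, hq, hqe⟩ := ih (a * a) (A.mul_mem ha ha) (by rw [← pow_two, ← pow_mul, ← pow_succ', h])
      have hq2 : q * q = 1 := hAt2 q ⟨hq, a * a, A.mul_mem ha ha, hqe⟩
      refine hF.inner _ q hq hq2 (by rw [← map_mul, ← hqe]; rfl) (fun x hx hx2 => ?_) fun x hx => ?_
      · obtain ⟨e, he, rfl⟩ := hVK x hx hx2
        rw [actQ_apply]
        exact congrArg π (Subtype.ext (show a * (e : M) * a⁻¹ = e by rw [hA.comm ha he, mul_inv_cancel_right]))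
      · obtain ⟨t, ht, rfl⟩ := hx
        have hmE : a * t * a⁻¹ ∈ E := (mem_normalizer_iff.mp (hAE ha) t).mp t.2
        set d : ↥E := ⟨a * t * a⁻¹, hmE⟩ * t⁻¹ with hd
        have hdA : (d : M) ∈ A := by
          show a * t * a⁻¹ * (t : M)⁻¹ ∈ A
          rw [show a * (t : M) * a⁻¹ * (t : M)⁻¹ = a * ((t : M) * a⁻¹ * (t : M)⁻¹) by group]
          exact mul_mem ha ((mem_normalizer_iff.mp (hA.le_normalizer (hPm.mp ht)) _).mp (inv_mem ha))
        have he : actQ E ⟨a, hAE ha⟩ (π t) * (π t)⁻¹ = π d := by rw [hd, map_mul, map_inv]; rfl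
        rw [he]
        exact ⟨hmapP (hAP hdA), hA2 hdA⟩
  have hcent_of : ∀ {x : M} (hx : x ∈ normalizer (E : Set M)) {v : ↥E}, π v * π v = 1 →
      actQ E ⟨x, hx⟩ = MulAut.conj (π v) → x * v ∈ centralizer (E : Set M) := fun {x} hx {v} hv he =>
    centralizes_of_actQ hE (mul_mem hx (hEE v.2)) (by
      rw [show (⟨x * v, mul_mem hx (hEE v.2)⟩ : normalizer (E : Set M)) = ⟨x, hx⟩ * ⟨v, hEE v.2⟩ from rfl,
        map_mul, he, actQ_conj (hEE v.2), ← map_mul, hv, map_one])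
  refine ⟨hgold, ?_, fun a ha => ?_, fun t ht ht2 ⟨e, he, hte⟩ => ?_, ?_⟩
  rotate_left
  · obtain ⟨j, hj⟩ := hA.isPGroup ⟨a, ha⟩
    obtain ⟨q, hq, hqe⟩ := hinner j a ha (congrArg Subtype.val hj)
    have hq2 := hAt2 q ⟨hq, a, ha, hqe⟩
    obtain ⟨v, hv, rfl⟩ := hVK q hq hq2
    exact ⟨v, ⟨hv, v.2⟩, hcent_of (hAE ha) hq2 hqe⟩
  · have htN : t ∈ normalizer (E : Set M) := by
      have h := mul_mem (hEE he) ((centralizer_le_normalizer (s := (E : Set M))) hte)
      rwa [mul_inv_cancel_left] at h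
    set q := π ⟨e, he⟩ with hq
    have hqe : actQ E ⟨t, htN⟩ = MulAut.conj q := by
      refine MulEquiv.ext fun r => ?_
      obtain ⟨x, rfl⟩ := QuotientGroup.mk'_surjective _ r
      rw [actQ_apply, MulAut.conj_apply, hq, ← map_inv, ← map_mul, ← map_mul]
      refine congrArg π (Subtype.ext ?_)
      show t * x * t⁻¹ = e * x * e⁻¹
      have h1 : (x : M) * (e⁻¹ * t) = e⁻¹ * t * x := hte x x.2
      calc t * x * t⁻¹ = e * (e⁻¹ * t * x) * t⁻¹ := by group
        _ = e * (x * (e⁻¹ * t)) * t⁻¹ := by rw [h1]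
        _ = _ := by group
    have hq2 : q * q = 1 := hinj (by
      rw [map_mul, ← hqe, ← map_mul, show (⟨t, htN⟩ : normalizer (E : Set M)) * ⟨t, htN⟩ = 1 from Subtype.ext ht2,
        map_one, map_one])
    have hqN : q ∈ normalizer ((TQ : Subgroup (↥E ⧸ center ↥E)) : Set (↥E ⧸ center ↥E)) := by
      refine mem_normalizer_of_maps ?_
      rintro _ ⟨p, hp, rfl⟩
      rw [← MulAut.conj_apply, ← hqe, actQ_apply]
      exact hmapP (hPm.mpr (mul_mem (mul_mem ht (hPm.mp hp)) (inv_mem ht)))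
    have hqT : q ∈ (TQ : Subgroup _) := by
      have hp : IsPGroup 2 (zpowers q) := by
        rintro ⟨_, i, rfl⟩
        exact ⟨1, Subtype.ext (by
          show (q ^ i) ^ (2 ^ 1) = 1
          rw [pow_one, pow_two, ← zpow_add, ← two_mul, zpow_mul, zpow_two, hq2, one_zpow])⟩
      exact (mem_inf.mp ((hp.inf_normalizer_sylow TQ) ▸ mem_inf.mpr ⟨mem_zpowers q, hqN⟩ :
        q ∈ zpowers q ⊓ (TQ : Subgroup _))).2
    obtain ⟨v, hv, hve⟩ := hVK q hqT hq2
    exact ⟨v, ⟨hv, v.2⟩, hcent_of htN (hve.symm ▸ hq2) (hve.symm ▸ hqe)⟩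
  · -- involutions up to the centre
    rintro v ⟨hvA, hvE⟩
    set w : ↥E := ⟨v, hvE⟩ with hw
    by_cases hwc : π w = 1
    · exact ⟨(v : M)⁻¹, ⟨w⁻¹, inv_mem ((QuotientGroup.eq_one_iff w).mp hwc), rfl⟩, by simp⟩
    have horb : ∀ x y : ↥E, (x : M) ∈ A → (y : M) ∈ A → π x ≠ 1 → π y ≠ 1 →
        ∃ z ∈ center ↥E, y * y = x * x * (z * z) := by
      intro x y hx hy hx1 hy1
      obtain ⟨i, hi⟩ := htr (π x) (hmapP (hAP hx)) (hA2 hx) hx1 (π y) (hmapP (hAP hy)) (hA2 hy) hy1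
      obtain ⟨g, hg⟩ := QuotientGroup.mk'_surjective (center ↥E) (k0 ^ i)
      rw [← hg, ← map_inv, ← map_mul, ← map_mul] at hi
      obtain hz := QuotientGroup.eq.mp hi
      set z := (g * x * g⁻¹)⁻¹ * y
      have hyz : y = g * x * g⁻¹ * z := (mul_inv_cancel_left _ _).symm
      have hx2 : x * x ∈ center ↥E := (QuotientGroup.eq_one_iff _).mp ((map_mul π x x).trans (hA2 hx))
      have hgx : g * x * g⁻¹ * (g * x * g⁻¹) = x * x := by
        rw [show g * x * g⁻¹ * (g * x * g⁻¹) = g * (x * x) * g⁻¹ by group, mem_center_iff.mp hx2 g,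
          mul_inv_cancel_right]
      refine ⟨z, hz, ?_⟩
      conv_lhs => rw [hyz]
      calc g * x * g⁻¹ * z * (g * x * g⁻¹ * z) = g * x * g⁻¹ * (z * (g * x * g⁻¹)) * z := by group
        _ = g * x * g⁻¹ * (g * x * g⁻¹ * z) * z := by rw [mem_center_iff.mp hz (g * x * g⁻¹)]
        _ = x * x * (z * z) := by rw [← hgx]; group
    obtain ⟨x, hx, hx1, hxw⟩ : ∃ x : ↥E, (x : M) ∈ A ∧ π x ≠ 1 ∧ π x ≠ π w := by
      by_contra hcon
      push Not at hcon
      have h4 := hF.loc.four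
      have : Nat.card {z // z ∈ (TQ : Subgroup (↥E ⧸ center ↥E)) ∧ z * z = 1} ≤ Nat.card Bool := by
        refine Nat.card_le_card_of_injective (fun z => decide (z.1 = 1)) fun z y hzy => Subtype.ext ?_
        have h' := decide_eq_decide.mp hzy
        by_cases hz : z.1 = 1
        · rw [hz, h'.mp hz]
        · obtain ⟨a, ha, hae⟩ := hVK z.1 z.2.1 z.2.2
          obtain ⟨b, hb, hbe⟩ := hVK y.1 y.2.1 y.2.2
          rw [← hae, ← hbe, hcon a ha (hae.symm ▸ hz), hcon b hb (hbe.symm ▸ fun e => hz (h'.mpr e))]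
      rw [Nat.card_eq_fintype_card (α := Bool), Fintype.card_bool] at this
      omega
    have hxw1 : π (x * w) ≠ 1 := fun e => hxw (by
      rw [map_mul, mul_eq_one_iff_eq_inv] at e
      rw [e, inv_eq_of_mul_eq_one_left (hA2 (show (w : M) ∈ A from hvA))])
    obtain ⟨z, hz, hze⟩ := horb x (x * w) hx (A.mul_mem hx hvA) hx1 hxw1
    have hww : w * w = z * z := by
      refine mul_left_cancel (a := x * x) ?_
      rw [← hze]
      calc x * x * (w * w) = x * (x * w) * w := by group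
        _ = x * (w * x) * w := by rw [show x * w = w * x from Subtype.ext (hA.comm hx hvA)]
        _ = _ := by group
    have h1 : w * z⁻¹ * (w * z⁻¹) = 1 := by
      calc w * z⁻¹ * (w * z⁻¹) = w * (z⁻¹ * w) * z⁻¹ := by group
        _ = w * (w * z⁻¹) * z⁻¹ := by rw [mem_center_iff.mp (inv_mem hz) w]
        _ = w * w * (z * z)⁻¹ := by group
        _ = 1 := by rw [hww, mul_inv_cancel]
    exact ⟨((z⁻¹ : ↥E) : M), mem_map_of_mem E.subtype (inv_mem hz), congrArg Subtype.val h1⟩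
  -- the centre
  set Ae : Subgroup ↥E := A.subgroupOf E with hAe
  have hAZ : ∀ x ∈ (P : Subgroup ↥E), π x * π x = 1 → ∃ a ∈ Ae, ∃ z ∈ center ↥E, x = a * z := by
    intro x hx hx2
    obtain ⟨a, ha, hae⟩ := hVK (π x) (hmapP hx) hx2
    exact ⟨a, ha, a⁻¹ * x, QuotientGroup.eq.mp hae, (mul_inv_cancel_left a x).symm⟩
  have hperf : commutator ↥E = ⊤ := hE.2.1.commutator_eq_top
  have htrans : ∀ {z : ↥E} (hz : z ∈ center ↥E),
      (⟨z, hZP hz⟩ : ↥(P : Subgroup ↥E)) ∈ commutator ↥(P : Subgroup ↥E) := fun {z} hz =>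
    central_mem_commutator hperf P hz (hZP hz)
  suffices hmain : center ↥E ≤ Ae by
    rintro _ ⟨z, hz, rfl⟩
    exact hmain hz
  rcases hF.cover with hexp | ⟨hsi, h8⟩ | hno
  · -- an abelian Sylow subgroup
    have hPc : ∀ x y : ↥(P : Subgroup ↥E), x * y = y * x := by
      rintro ⟨x, hx⟩ ⟨y, hy⟩
      obtain ⟨a, ha, z, hz, rfl⟩ := hAZ x hx (hexp _ (hmapP hx))
      obtain ⟨b, hb, w, hw, rfl⟩ := hAZ y hy (hexp _ (hmapP hy))
      refine Subtype.ext (show a * z * (b * w) = b * w * (a * z) from ?_)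
      calc a * z * (b * w) = a * (z * b) * w := by group
        _ = a * (b * z) * w := by rw [mem_center_iff.mp hz b]
        _ = a * b * (z * w) := by group
        _ = b * a * (w * z) := by rw [show a * b = b * a from Subtype.ext (hA.comm ha hb), mem_center_iff.mp hw z]
        _ = b * (a * w) * z := by group
        _ = b * (w * a) * z := by rw [mem_center_iff.mp hw a]
        _ = _ := by group
    intro z hz
    have h1 := htrans hz
    rw [show commutator ↥(P : Subgroup ↥E) = ⊥ from (_root_.commutator_def _).trans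
      (commutator_eq_bot_iff_le_centralizer.mpr fun x _ y _ => hPc y x), mem_bot] at h1
    rw [show z = 1 from congrArg Subtype.val h1]
    exact one_mem _
  · -- the squares of the Sylow subgroup determine it modulo the involutions
    let Z2 : Subgroup ↥E :=
      { carrier := {x | ∃ z ∈ center ↥E, x = z * z}
        one_mem' := ⟨1, one_mem _, (mul_one _).symm⟩
        mul_mem' := by
          rintro _ _ ⟨z, hz, rfl⟩ ⟨w, hw, rfl⟩
          refine ⟨z * w, mul_mem hz hw, ?_⟩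
          calc z * z * (w * w) = z * (z * w) * w := by group
            _ = z * (w * z) * w := by rw [mem_center_iff.mp hw z]
            _ = _ := by group
        inv_mem' := by
          rintro _ ⟨z, hz, rfl⟩
          exact ⟨z⁻¹, inv_mem hz, mul_inv_rev z z⟩ }
    have hZ2c : Z2 ≤ center ↥E := by rintro _ ⟨z, hz, rfl⟩; exact mul_mem hz hz
    have hAeN : ∀ p ∈ (P : Subgroup ↥E), ∀ a ∈ Ae, p * a * p⁻¹ ∈ Ae := fun p hp a ha =>
      hconjA ha (mul_mem (mul_mem hp (hAP ha)) (inv_mem hp))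
    set N : Subgroup ↥(P : Subgroup ↥E) := (Ae ⊔ Z2).subgroupOf (P : Subgroup ↥E) with hN
    have hZ2N : Ae ≤ normalizer (Z2 : Set ↥E) := fun a _ => mem_normalizer_of_maps fun z hz => by
      rw [mem_center_iff.mp (hZ2c hz) a, mul_inv_cancel_right]; exact hz
    have hsplit : ∀ {x}, x ∈ Ae ⊔ Z2 → ∃ a ∈ Ae, ∃ z ∈ Z2, x = a * z := fun {x} hx => by
      rw [← SetLike.mem_coe, coe_mul_of_left_le_normalizer_right _ _ hZ2N] at hx
      obtain ⟨a, ha, z, hz, rfl⟩ := hx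
      exact ⟨a, ha, z, hz, rfl⟩
    haveI : N.Normal := ⟨fun x hx g => by
      obtain ⟨a, ha, z, hz, hxe⟩ := hsplit (mem_subgroupOf.mp hx)
      show (g : ↥E) * x * (g : ↥E)⁻¹ ∈ Ae ⊔ Z2
      rw [hxe, show (g : ↥E) * (a * z) * (g : ↥E)⁻¹ = g * a * (g : ↥E)⁻¹ * (g * z * (g : ↥E)⁻¹) by group,
        mem_center_iff.mp (hZ2c hz) g, mul_inv_cancel_right]
      exact mul_mem_sup (hAeN g g.2 a ha) hz⟩
    let ψ := QuotientGroup.mk' N
    have hψA : ∀ a : ↥(P : Subgroup ↥E), (a : ↥E) ∈ Ae → ψ a = 1 := fun a ha =>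
      (QuotientGroup.eq_one_iff a).mpr (mem_sup_left ha)
    have hψZ : ∀ z : ↥(P : Subgroup ↥E), (z : ↥E) ∈ center ↥E →
        ψ z * ψ z = 1 ∧ ∀ r, ψ z * r = r * ψ z := fun z hz => by
      refine ⟨(map_mul ψ z z).symm.trans ((QuotientGroup.eq_one_iff _).mpr (mem_sup_right ⟨_, hz, rfl⟩)), fun r => ?_⟩
      obtain ⟨p, rfl⟩ := QuotientGroup.mk'_surjective N r
      rw [← map_mul, ← map_mul]
      exact congrArg ψ (Subtype.ext (mem_center_iff.mp hz (p : ↥E)).symm)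
    have hψsq : ∀ x : ↥(P : Subgroup ↥E), ψ x * ψ x * (ψ x * ψ x) = 1 ∧ (∀ r, ψ x * ψ x * r = r * (ψ x * ψ x)) ∧
        ∃ a : ↥(P : Subgroup ↥E), (a : ↥E) ∈ Ae ∧ ∃ z : ↥(P : Subgroup ↥E), (z : ↥E) ∈ center ↥E ∧
          x * x = a * z := fun x => by
      have hxx : π (x : ↥E) * π x ∈ (TQ : Subgroup _) := mul_mem (hmapP x.2) (hmapP x.2)
      obtain ⟨a, ha, z, hz, he⟩ := hAZ _ (mul_mem x.2 x.2) (by rw [map_mul]; exact hF.sq _ (hmapP x.2))
      have e : x * x = (⟨a, hAP ha⟩ : ↥(P : Subgroup ↥E)) * ⟨z, hZP hz⟩ := Subtype.ext he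
      refine ⟨?_, ?_, _, ha, _, hz, e⟩ <;> rw [← map_mul, e, map_mul, hψA _ ha, one_mul]
      · exact (hψZ _ hz).1
      · exact (hψZ _ hz).2
    have hin : ∀ x : ↥(P : Subgroup ↥E), π (x : ↥E) * π x = 1 → ψ x * ψ x = 1 := fun x hx => by
      obtain ⟨a, ha, z, hz, he⟩ := hAZ _ x.2 hx
      rw [show x = (⟨a, hAP ha⟩ : ↥(P : Subgroup ↥E)) * ⟨z, hZP hz⟩ from Subtype.ext he, map_mul, hψA _ ha, one_mul]
      exact (hψZ _ hz).1
    -- squares outside the preimage of the involutions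
    have horb : ∀ x y : ↥(P : Subgroup ↥E), π (x : ↥E) * π x ≠ 1 → π (y : ↥E) * π y ≠ 1 →
        ψ x * ψ x = ψ y * ψ y := by
      intro x y hx hy
      obtain ⟨i, hi⟩ := htr _ (mul_mem (hmapP x.2) (hmapP x.2)) (hF.sq _ (hmapP x.2)) hx _
        (mul_mem (hmapP y.2) (hmapP y.2)) (hF.sq _ (hmapP y.2)) hy
      obtain ⟨g, hg⟩ := QuotientGroup.mk'_surjective (center ↥E) (k0 ^ i)
      have hgP : ∀ p ∈ (P : Subgroup ↥E), g * p * g⁻¹ ∈ (P : Subgroup ↥E) := fun p hp => hmem (by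
        rw [map_mul, map_mul, map_inv, hg]
        exact (mem_normalizer_iff.mp (hk0i i) _).mp (hmapP hp))
      set x' : ↥(P : Subgroup ↥E) := ⟨g * x * g⁻¹, hgP _ x.2⟩ with hx'
      have h1 : π (x' : ↥E) * π x' = π (y : ↥E) * π y := by
        rw [← hi, ← hg, hx', ← map_mul, ← map_inv, ← map_mul, ← map_mul, ← map_mul]
        congr 1
        group
      obtain ⟨a, ha, z, hz, he⟩ := hAZ _ (mul_mem (inv_mem y.2) x'.2) (by
        rw [map_mul, map_inv]; exact hsi _ (hmapP y.2) _ (hmapP x'.2) h1.symm)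
      have h2 : ψ x' * ψ x' = ψ y * ψ y := by
        have e : x' = y * (⟨a, hAP ha⟩ * ⟨z, hZP hz⟩) := Subtype.ext (by
          show (x' : ↥E) = y * (a * z)
          rw [← he, mul_inv_cancel_left])
        obtain ⟨hz2, hzc⟩ := hψZ ⟨z, hZP hz⟩ hz
        rw [e, map_mul, map_mul, hψA ⟨a, hAP ha⟩ ha, one_mul]
        calc ψ y * ψ ⟨z, hZP hz⟩ * (ψ y * ψ ⟨z, hZP hz⟩) = ψ y * (ψ ⟨z, hZP hz⟩ * ψ y) * ψ ⟨z, hZP hz⟩ := by group
          _ = ψ y * (ψ y * ψ ⟨z, hZP hz⟩) * ψ ⟨z, hZP hz⟩ := by rw [hzc]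
          _ = ψ y * ψ y * (ψ ⟨z, hZP hz⟩ * ψ ⟨z, hZP hz⟩) := by group
          _ = ψ y * ψ y := by rw [hz2, mul_one]
      obtain ⟨-, -, a1, ha1, z1, hz1, he1⟩ := hψsq x
      rw [← h2, ← map_mul, ← map_mul, he1]
      have e : x' * x' = (⟨g * a1 * g⁻¹, hgP _ a1.2⟩ : ↥(P : Subgroup ↥E)) * z1 := Subtype.ext (by
        show g * (x : ↥E) * g⁻¹ * (g * x * g⁻¹) = g * a1 * g⁻¹ * z1
        rw [show g * (x : ↥E) * g⁻¹ * (g * x * g⁻¹) = g * (x * x : ↥E) * g⁻¹ by group,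
          show (x : ↥E) * x = a1 * z1 from congrArg Subtype.val he1,
          show g * ((a1 : ↥E) * z1) * g⁻¹ = g * a1 * g⁻¹ * (g * z1 * g⁻¹) by group,
          mem_center_iff.mp hz1 g, mul_inv_cancel_right])
      rw [e, map_mul, map_mul, hψA a1 ha1, hψA ⟨_, hgP _ a1.2⟩ (hconjA ha1 (hgP _ a1.2))]
    have hsurjV : ∀ x : ↥(P : Subgroup ↥E), π (x : ↥E) * π x ≠ 1 →
        ∀ v ∈ (TQ : Subgroup (↥E ⧸ center ↥E)), v * v = 1 → v ≠ 1 →
          ∃ y : ↥(P : Subgroup ↥E), π (y : ↥E) * π y = v := by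
      intro x hx v hv hv2 hv1
      obtain ⟨i, hi⟩ := htr _ (mul_mem (hmapP x.2) (hmapP x.2)) (hF.sq _ (hmapP x.2)) hx v hv hv2 hv1
      obtain ⟨p, hp, hpe⟩ := ((mem_normalizer_iff.mp (hk0i i) _).mp (hmapP x.2) :
        k0 ^ i * π (x : ↥E) * (k0 ^ i)⁻¹ ∈ (P : Subgroup ↥E).map π)
      refine ⟨⟨p, hp⟩, ?_⟩
      show π p * π p = v
      rw [hpe, ← hi]; group
    -- two elements with the same square modulo the centre differ by an involution
    have hout : ∀ u w : ↥(P : Subgroup ↥E), π ((u * w : ↥(P : Subgroup ↥E)) : ↥E) * π ((u * w : ↥(P : Subgroup ↥E)) : ↥E) = 1 →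
        π (u : ↥E) * π u = π (w : ↥E) * π w := by
      intro u w h
      rw [Subgroup.coe_mul, map_mul] at h
      set b := π (u : ↥E) * π w with hb
      have hc : ∀ r ∈ (TQ : Subgroup _), b * r = r * b := fun r hr =>
        hF.loc.central b (mul_mem (hmapP u.2) (hmapP w.2)) h r hr
      have e : π (w : ↥E) = (π (u : ↥E))⁻¹ * b := (inv_mul_cancel_left _ _).symm
      rw [e]
      calc π (u : ↥E) * π u = (π (u : ↥E) * π u)⁻¹ * (b * b) := by
            rw [h, mul_one, inv_eq_of_mul_eq_one_left (hF.sq _ (hmapP u.2))]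
        _ = (π (u : ↥E))⁻¹ * ((π (u : ↥E))⁻¹ * b) * b := by group
        _ = (π (u : ↥E))⁻¹ * (b * (π (u : ↥E))⁻¹) * b := by rw [hc _ (inv_mem (hmapP u.2))]
        _ = _ := by group
    have hexp2 : ∀ x : ↥(P : Subgroup ↥E), ψ x * ψ x = 1 := by
      intro x
      by_cases hx : π (x : ↥E) * π x = 1
      · exact hin x hx
      set xb := π (x : ↥E) * π x with hxb
      have hbig : ∀ s : Finset (↥E ⧸ center ↥E), s.card ≤ 6 →
          ∃ v ∈ (TQ : Subgroup (↥E ⧸ center ↥E)), v * v = 1 ∧ v ∉ s := by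
        intro s hs
        by_contra hcon
        push Not at hcon
        have : Nat.card {v // v ∈ (TQ : Subgroup (↥E ⧸ center ↥E)) ∧ v * v = 1} ≤ Nat.card s :=
          Nat.card_le_card_of_injective (fun v => (⟨v.1, hcon v.1 v.2.1 v.2.2⟩ : s))
            fun v w h => Subtype.ext (congrArg (fun r : s => (r : ↥E ⧸ center ↥E)) h)
        rw [Nat.card_eq_fintype_card (α := s), Fintype.card_coe] at this
        omega
      obtain ⟨v, hv, hv2, hvs⟩ := hbig {1, xb} (le_trans Finset.card_le_two (by norm_num))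
      simp only [Finset.mem_insert, Finset.mem_singleton, not_or] at hvs
      obtain ⟨y, hy⟩ := hsurjV x hx v hv hv2 hvs.1
      set wb := π ((x * y : ↥(P : Subgroup ↥E)) : ↥E) * π ((x * y : ↥(P : Subgroup ↥E)) : ↥E) with hwb
      have hxy : wb ≠ 1 := fun h => hvs.2 (by rw [← hy, hxb, hout x y h])
      obtain ⟨u, hu, hu2, hus⟩ := hbig {1, xb, v, wb} (le_trans Finset.card_le_four (by norm_num))
      simp only [Finset.mem_insert, Finset.mem_singleton, not_or] at hus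
      obtain ⟨z, hz⟩ := hsurjV x hx u hu hu2 hus.1
      have o1 : π (y : ↥E) * π y ≠ 1 := hy.symm ▸ hvs.1
      have o2 : π (z : ↥E) * π z ≠ 1 := hz.symm ▸ hus.1
      have o3 : π ((x * z : ↥(P : Subgroup ↥E)) : ↥E) * π ((x * z : ↥(P : Subgroup ↥E)) : ↥E) ≠ 1 := fun h =>
        hus.2.1 (by rw [← hz, hxb, hout x z h])
      have o4 : π ((y * z : ↥(P : Subgroup ↥E)) : ↥E) * π ((y * z : ↥(P : Subgroup ↥E)) : ↥E) ≠ 1 := fun h =>
        hus.2.2.1 (by rw [← hz, ← hy, hout y z h])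
      have o5 : π ((x * y * z : ↥(P : Subgroup ↥E)) : ↥E) * π ((x * y * z : ↥(P : Subgroup ↥E)) : ↥E) ≠ 1 := fun h =>
        hus.2.2.2 (by rw [← hz, hwb, hout (x * y) z h])
      set c := ψ x * ψ x with hc
      have hcc : ∀ r, c * r = r * c := (hψsq x).2.1
      have hc2 : c * c = 1 := (hψsq x).1
      have sq : ∀ w : ↥(P : Subgroup ↥E), π (w : ↥E) * π w ≠ 1 → ψ w * ψ w = c := fun w hw => horb w x hw hx
      have flip : ∀ a b : ↥(P : Subgroup ↥E), ψ a * ψ a = c → ψ b * ψ b = c → ψ (a * b) * ψ (a * b) = c →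
          ψ b * ψ a = ψ a * ψ b * c := by
        intro a b ha hb hab
        rw [map_mul] at hab
        calc ψ b * ψ a = (ψ a)⁻¹ * (ψ a * ψ b * (ψ a * ψ b)) * (ψ b)⁻¹ := by group
          _ = (ψ a)⁻¹ * c * (ψ b)⁻¹ := by rw [hab]
          _ = ψ a * (ψ a * ψ a)⁻¹ * c * (ψ b * ((ψ b) * ψ b)⁻¹) := by group
          _ = ψ a * (c⁻¹ * c) * (ψ b * c⁻¹) := by rw [ha, hb]; group
          _ = ψ a * ψ b * c := by rw [inv_eq_of_mul_eq_one_left hc2, hc2]; group
      have f1 := flip x y rfl (sq y o1) (sq _ hxy)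
      have f2 := flip x z rfl (sq z o2) (sq _ o3)
      have f3 := flip x (y * z) rfl (sq _ o4) (by rw [← mul_assoc]; exact sq _ o5)
      rw [map_mul] at f3
      have : ψ x * (ψ y * ψ z) * c = ψ x * (ψ y * ψ z) := by
        rw [← f3]
        calc ψ y * ψ z * ψ x = ψ y * (ψ z * ψ x) := by group
          _ = ψ y * (ψ x * ψ z * c) := by rw [f2]
          _ = ψ y * ψ x * ψ z * c := by group
          _ = ψ x * ψ y * c * ψ z * c := by rw [f1]
          _ = ψ x * ψ y * (c * ψ z) * c := by group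
          _ = ψ x * ψ y * (ψ z * c) * c := by rw [hcc]
          _ = ψ x * (ψ y * ψ z) * (c * c) := by group
          _ = _ := by rw [hc2, mul_one]
      exact mul_eq_left.mp this
    have hcomm : commutator ↥(P : Subgroup ↥E) ≤ N := by
      rw [_root_.commutator_def, commutator_le]
      intro x _ y _
      rw [← QuotientGroup.eq_one_iff]
      show ψ ⁅x, y⁆ = 1
      rw [map_commutatorElement, commutatorElement_eq_one_iff_mul_comm]
      have hi : ∀ w, (ψ w)⁻¹ = ψ w := fun w => inv_eq_of_mul_eq_one_left (hexp2 w)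
      calc ψ x * ψ y = (ψ (x * y))⁻¹ := by rw [hi, map_mul]
        _ = ψ y * ψ x := by rw [map_mul, _root_.mul_inv_rev, hi, hi]
    have hstep : ∀ z ∈ center ↥E, ∃ w ∈ center ↥E, (w * w)⁻¹ * z ∈ Ae := by
      intro z hz
      obtain ⟨a, ha, _, ⟨w, hw, rfl⟩, hzw⟩ := hsplit (mem_subgroupOf.mp (hcomm (htrans hz)))
      refine ⟨w, hw, ?_⟩
      rw [show z = a * (w * w) from hzw, mem_center_iff.mp (mul_mem hw hw) a, inv_mul_cancel_left]
      exact ha
    have hiter : ∀ (j : ℕ), ∀ z ∈ center ↥E, ∃ w ∈ center ↥E, (w ^ 2 ^ j)⁻¹ * z ∈ Ae := by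
      intro j
      induction j with
      | zero => exact fun z hz => ⟨z, hz, by simp⟩
      | succ j ih =>
        intro z hz
        obtain ⟨w, hw, h1⟩ := ih z hz
        obtain ⟨w', hw', h2⟩ := hstep w hw
        refine ⟨w', hw', ?_⟩
        have hcm : Commute (w' * w') ((w' * w')⁻¹ * w) :=
          ((mem_center_iff.mp (mul_mem hw' hw') _).symm : _ = _)
        have h3 : w ^ 2 ^ j = w' ^ 2 ^ (j + 1) * ((w' * w')⁻¹ * w) ^ 2 ^ j := by
          rw [show w' ^ 2 ^ (j + 1) = (w' * w') ^ 2 ^ j by rw [pow_succ', pow_mul, pow_two],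
            ← hcm.mul_pow, mul_inv_cancel_left]
        rw [h3, _root_.mul_inv_rev, mul_assoc] at h1
        have := mul_mem (pow_mem h2 (2 ^ j)) h1
        rwa [mul_inv_cancel_left] at this
    intro z hz
    obtain ⟨k, hk⟩ := IsPGroup.iff_card.mp P.2
    obtain ⟨w, hw, h⟩ := hiter k z hz
    have hw1 : w ^ 2 ^ k = 1 := by
      have := congrArg Subtype.val (pow_card_eq_one' (x := (⟨w, hZP hw⟩ : ↥(P : Subgroup ↥E))))
      simpa [hk] using this
    rwa [hw1, inv_one, one_mul] at h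
  · intro z hz
    have h1 := hno ↥E π ⟨QuotientGroup.mk'_surjective _, (QuotientGroup.ker_mk' _).le,
      hperf ▸ le_top⟩ (P.2.to_le ((QuotientGroup.ker_mk' (center ↥E)).le.trans hZP))
    rw [show π.ker = center ↥E from QuotientGroup.ker_mk' _] at h1
    rw [h1, mem_bot] at hz
    exact hz ▸ one_mem _

end CfsgLib.GoldStruct
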