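import Cfsg.Agent.Lib.GoldStruct.Comp
import Cfsg.Agent.Lib.Comp.Layer
import Cfsg.Agent.Lib.Comp.BalanceLocal
import Cfsg.Agent.Lib.Comp.BpInherit

/-!
Goldschmidt's theorem on strongly closed abelian 2-subgroups, structural form, in a group with trivial core generated
by the conjugates of the subgroup.
-/

set_option autoImplicit false
set_option linter.unusedSectionVars false
set_option linter.style.haveILetI false

namespace CfsgLib.GoldStruct

open Cfsg Subgroup CfsgLib CfsgLib.Comp CfsgLib.GoldSC
open scoped commutatorElement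
open CfsgLib.S3Simple (actQ actQ_apply component_isSimple component_not_comm mem_normalizer_of_map_eq)

universe u

variable {M : Type u} [Group M] [Finite M] {T : Sylow 2 M} {A : Subgroup M}

/-- A normal subgroup containing `A` is everything. -/
theorem eq_top_of_le (hgen : normalClosure (A : Set M) = ⊤) {N : Subgroup M} [N.Normal] (h : A ≤ N) : N = ⊤ :=
  top_le_iff.mp (hgen ▸ normalClosure_le_normal h)

theorem components_normal (hM : Ctx M) (hA : Ab T A) (hgen : normalClosure (A : Set M) = ⊤) {E : Subgroup M}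
    (hE : IsComponent E) : E.Normal := by
  let N0 : Subgroup M := ⨅ F : {F : Subgroup M // IsComponent F}, normalizer ((F : Subgroup M) : Set M)
  haveI : N0.Normal := ⟨fun n hn g => by
    simp only [N0, mem_iInf] at hn ⊢
    intro F
    have h := hn ⟨_, isComponent_map_equiv (MulAut.conj g⁻¹) F.2⟩
    refine mem_normalizer_of_maps fun x hx => ?_
    obtain ⟨y, hy, hye⟩ : n * (g⁻¹ * x * g) * n⁻¹ ∈ (F : Subgroup M).map (MulAut.conj g⁻¹).toMonoidHom :=
      (mem_normalizer_iff.mp h _).mp ⟨x, hx, by simp⟩
    have e : g * n * g⁻¹ * x * (g * n * g⁻¹)⁻¹ = g * (n * (g⁻¹ * x * g) * n⁻¹) * g⁻¹ := by group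
    rw [e, ← hye]
    simpa [mul_assoc] using hy⟩
  have h := eq_top_of_le hgen (N := N0) (le_iInf fun F => closed_normalizes hM hA F.2)
  refine ⟨fun x hx g => ?_⟩
  have h1 : g ∈ normalizer (E : Set M) := (iInf_le (fun F : {F : Subgroup M // IsComponent F} =>
    normalizer ((F : Subgroup M) : Set M)) ⟨E, hE⟩) (h.ge (mem_top g))
  exact (mem_normalizer_iff.mp h1 x).mp hx

theorem exists_blk_of_gen (hO : pPrimeCore 2 M = ⊥) (hA : Ab T A) (hgen : normalClosure (A : Set M) = ⊤)
    {E : Subgroup M} (hE : IsComponent E) : Blk T A E := by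
  haveI := components_normal ⟨hO, fun Y _ _ _ => GoldSC.main Y⟩ hA hgen hE
  refine exists_blk hO hA hE fun hle => component_not_comm hE ⟨⟨fun x y => ?_⟩⟩
  haveI : (centralizer (E : Set M)).Normal := normal_centralizer
  have h := eq_top_of_le hgen hle
  obtain ⟨a, rfl⟩ := QuotientGroup.mk'_surjective _ x
  obtain ⟨b, rfl⟩ := QuotientGroup.mk'_surjective _ y
  rw [← map_mul, ← map_mul]
  exact congrArg _ (Subtype.ext ((h.ge (mem_top (b : M))) a a.2))

/-- The elements of `A` inside the components adjust an element acting innerly. -/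
theorem adjust {x : M} (h : ∀ v ∈ A ⊓ layer M, ∀ E : Subgroup M, IsComponent E →
    ∃ w ∈ A ⊓ E, x * v * w ∈ centralizer (E : Set M)) :
    ∃ u ∈ A ⊓ layer M, ∀ E : Subgroup M, IsComponent E → x * u ∈ centralizer (E : Set M) := by
  classical
  haveI := Fintype.ofFinite (Subgroup M)
  suffices h' : ∀ s : Finset (Subgroup M), (∀ E ∈ s, IsComponent E) →
      ∃ u ∈ A ⊓ layer M, ∀ E ∈ s, x * u ∈ centralizer (E : Set M) by
    obtain ⟨u, hu, hc⟩ := h' (Finset.univ.filter IsComponent) fun E hE => (Finset.mem_filter.mp hE).2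
    exact ⟨u, hu, fun E hE => hc E (Finset.mem_filter.mpr ⟨Finset.mem_univ _, hE⟩)⟩
  intro s
  induction s using Finset.induction_on with
  | empty => exact fun _ => ⟨1, one_mem _, fun E hE => absurd hE (Finset.notMem_empty E)⟩
  | @insert E s hEs ih =>
    intro hs
    obtain ⟨u, hu, hc⟩ := ih fun F hF => hs F (Finset.mem_insert_of_mem hF)
    have hE := hs E (Finset.mem_insert_self _ _)
    obtain ⟨w, hw, hwc⟩ := h u hu E hE
    refine ⟨u * w, mul_mem hu ⟨hw.1, le_layer hE hw.2⟩, fun F hF => ?_⟩
    rw [← mul_assoc]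
    rcases Finset.mem_insert.mp hF with rfl | hFs
    · exact hwc
    · refine mul_mem (hc F hFs) fun f hf => ?_
      exact (comm_of_commutator_eq_bot ((components_eq_or_commute hE (hs F hF)).resolve_left
        fun e => hEs (e ▸ hFs)) hw.2 hf).symm

/-- The conclusion in the generated group. -/
theorem structure_main (hO : pPrimeCore 2 M = ⊥) (hA : Ab T A) (hgen : normalClosure (A : Set M) = ⊤) :
    pCore 2 M ⊔ commutator M = ⊤ ∧ pCore 2 M ≤ center M ∧ A = pCore 2 M ⊔ omegaOne 2 (T : Subgroup M) ∧
      ∃ (ι : Type) (_ : Fintype ι) (L : ι → Type u) (_ : ∀ i, Group (L i)),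
        (∀ i, IsSimpleGroup (L i) ∧ ¬ IsMulCommutative (L i) ∧ IsGoldschmidtGroup (L i)) ∧
        Nonempty (↥(commutator M) ⧸ center ↥(commutator M) ≃* ((i : ι) → L i)) := by
  classical
  haveI : Fact (Nat.Prime 2) := ⟨Nat.prime_two⟩
  have hM : Ctx M := ⟨hO, fun Y _ _ _ => GoldSC.main Y⟩
  have hB : ∀ {E : Subgroup M}, IsComponent E → Blk T A E := fun hE => exists_blk_of_gen hO hA hgen hE
  have hEn : ∀ {E : Subgroup M}, IsComponent E → E.Normal := fun hE => components_normal hM hA hgen hE
  set Z := pCore 2 M with hZ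
  haveI hZn : Z.Normal := Subgroup.sSup_normal _ (fun _ h => h.1)
  have hZT : Z ≤ (T : Subgroup M) := CfsgLib.AfterFT.CoreSep.pCore_two_le_sylow T
  set L := layer M with hL
  -- `A ∩ O₂` is central
  set R := A ⊓ Z with hR
  haveI hRn : R.Normal := ⟨fun r hr g =>
    ⟨hA.closed.2 r hr.1 g (hZT (hZn.conj_mem r hr.2 g)), hZn.conj_mem r hr.2 g⟩⟩
  have hRc : R ≤ center M := by
    haveI : (centralizer (R : Set M)).Normal := normal_centralizer
    have h := eq_top_of_le hgen (N := centralizer (R : Set M)) fun a ha r hr => hA.comm hr.1 ha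
    exact fun r hr => mem_center_iff.mpr fun g => ((h.ge (mem_top g)) r hr).symm
  haveI hZbn : (Z.map (QuotientGroup.mk' R)).Normal := hZn.map _ (QuotientGroup.mk'_surjective R)
  have hcomR : ∀ g : M, ∀ z ∈ Z, g * z * g⁻¹ * z⁻¹ ∈ R := by
    haveI : (centralizer ((Z.map (QuotientGroup.mk' R) : Subgroup (M ⧸ R)) : Set (M ⧸ R))).Normal :=
      normal_centralizer
    have h := eq_top_of_le hgen
      (N := (centralizer ((Z.map (QuotientGroup.mk' R) : Subgroup (M ⧸ R)) : Set (M ⧸ R))).comap (QuotientGroup.mk' R))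
      fun a ha => by
        rintro _ ⟨z, hz, rfl⟩
        have h1 : a * z * a⁻¹ * z⁻¹ ∈ R := by
          refine Subgroup.mem_inf.mpr ⟨?_, mul_mem (hZn.conj_mem z hz a) (inv_mem hz)⟩
          rw [show a * z * a⁻¹ * z⁻¹ = a * (z * a⁻¹ * z⁻¹) by group]
          exact mul_mem ha ((mem_normalizer_iff.mp (hA.le_normalizer (hZT hz)) _).mp (inv_mem ha))
        have h2 : QuotientGroup.mk' R (a * z * a⁻¹ * z⁻¹) = 1 := (QuotientGroup.eq_one_iff _).mpr h1
        rw [map_mul, map_mul, map_mul, map_inv, map_inv, mul_inv_eq_one, mul_inv_eq_iff_eq_mul] at h2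
        exact h2.symm
    intro g z hz
    have h1 := (h.ge (mem_top g) : QuotientGroup.mk' R g ∈ centralizer _) _ ⟨z, hz, rfl⟩
    refine (QuotientGroup.eq_one_iff _).mp ?_
    show QuotientGroup.mk' R _ = 1
    rw [map_mul, map_mul, map_mul, map_inv, map_inv, ← h1, mul_inv_cancel_right, mul_inv_cancel]
  -- what centralises the layer lies in `O₂`
  have hCL : centralizer (L : Set M) ≤ Z := by
    haveI : (centralizer (L : Set M)).Normal := normal_centralizer
    refine le_sSup ⟨inferInstance, fun x => ?_⟩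
    obtain ⟨n, hn⟩ := (IsPGroup.iff_card.mp (T.2.to_le (inf_le_right.trans hZT) : IsPGroup 2 R))
    have hcz : (x : M) ^ 2 ^ n ∈ centralizer (Z : Set M) := fun z hz => by
      have hd := hcomR x z hz
      set d := (x : M) * z * (x : M)⁻¹ * z⁻¹ with hdd
      have hdc : ∀ g, d * g = g * d := fun g => (mem_center_iff.mp (hRc hd) g).symm
      have hxz : ∀ k : ℕ, (x : M) ^ k * z * ((x : M) ^ k)⁻¹ = d ^ k * z := fun k => by
        induction k with
        | zero => simp
        | succ k ih =>
          calc (x : M) ^ (k + 1) * z * ((x : M) ^ (k + 1))⁻¹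
              = (x : M) * ((x : M) ^ k * z * ((x : M) ^ k)⁻¹) * (x : M)⁻¹ := by rw [pow_succ']; group
            _ = (x : M) * d ^ k * (z * (x : M)⁻¹) := by rw [ih]; group
            _ = d ^ k * (x : M) * (z * (x : M)⁻¹) := by rw [((Commute.pow_left (hdc x) k).symm.eq)]
            _ = d ^ k * (d * z) := by
              rw [mul_assoc (d ^ k)]
              refine congrArg _ ?_
              rw [hdd]
              group
            _ = d ^ (k + 1) * z := by rw [pow_succ]; exact (mul_assoc _ _ _).symm
      have h1 := hxz (2 ^ n)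
      rw [show d ^ 2 ^ n = 1 by
        have := congrArg Subtype.val (pow_card_eq_one' (x := (⟨d, hd⟩ : R))); simpa [hn] using this, one_mul,
        mul_inv_eq_iff_eq_mul] at h1
      exact h1.symm
    have hgf : (x : M) ^ 2 ^ n ∈ centralizer (generalizedFittingSubgroup M : Set M) := by
      have h1 : generalizedFittingSubgroup M ≤ centralizer ({(x : M) ^ 2 ^ n} : Set M) := by
        refine sup_le (fun e he => ?_) (fun q hq => ?_)
        · exact mem_centralizer_singleton_iff.mpr
            ((Commute.pow_right (show Commute e (x : M) from x.2 e he) _).eq)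
        · rw [fitting_eq_pCore Nat.prime_two hO] at hq
          exact mem_centralizer_singleton_iff.mpr (hcz q hq)
      exact fun y hy => mem_centralizer_singleton_iff.mp (h1 hy)
    haveI : (centralizer (generalizedFittingSubgroup M : Set M)).Normal := normal_centralizer
    have h2 : centralizer (generalizedFittingSubgroup M : Set M) ≤ fittingSubgroup M :=
      le_fittingSubgroup (nilpotent_of_comm fun a ha b hb => hb a (centralizer_generalizedFitting_le ha))
    have h3 := h2 hgf
    rw [fitting_eq_pCore Nat.prime_two hO] at h3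
    obtain ⟨k, hk⟩ := isPGroup_pCore (G := M) 2 ⟨_, h3⟩
    refine ⟨n + k, Subtype.ext ?_⟩
    have h4 : ((x : M) ^ 2 ^ n) ^ 2 ^ k = 1 := congrArg Subtype.val hk
    rw [SubmonoidClass.coe_pow, pow_add, pow_mul, h4]
    rfl
  have hcentL : ∀ {y : M}, (∀ E : Subgroup M, IsComponent E → y ∈ centralizer (E : Set M)) → y ∈ Z := fun {y} h => by
    refine hCL fun e he => ?_
    have hle : L ≤ centralizer ({y} : Set M) := sSup_le fun E hE f hf =>
      mem_centralizer_singleton_iff.mpr (h E hE f hf)
    exact mem_centralizer_singleton_iff.mp (hle he)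
  -- `A = (A ∩ O₂)(A ∩ L)`
  have hAsplit : ∀ a ∈ A, ∃ u ∈ A ⊓ L, a * u ∈ R := fun a ha => by
    obtain ⟨u, hu, hc⟩ := adjust (x := a) fun v hv E hE => (hB hE).act (a * v) (A.mul_mem ha hv.1)
    exact ⟨u, hu, A.mul_mem ha hu.1, hcentL hc⟩
  have hRL : R ⊔ L = ⊤ := eq_top_of_le hgen fun a ha => by
    obtain ⟨u, hu, hau⟩ := hAsplit a ha
    have := mul_mem (mem_sup_left (T := L) hau) (inv_mem (mem_sup_right (S := R) hu.2))
    rwa [mul_inv_cancel_right] at this
  have hLZ : ∀ l ∈ L, ∀ z ∈ Z, l * z = z * l := fun l hl z hz =>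
    comm_layer_fitting hl (by rw [fitting_eq_pCore Nat.prime_two hO]; exact hz)
  have hmul : ∀ g : M, ∃ r ∈ R, ∃ l ∈ L, g = r * l := fun g => by
    have hg : g ∈ ((R ⊔ L : Subgroup M) : Set M) := hRL.ge (mem_top g)
    rw [Subgroup.normal_mul] at hg
    obtain ⟨r, hr, l, hl, rfl⟩ := hg
    exact ⟨r, hr, l, hl, rfl⟩
  have hZc : Z ≤ center M := fun z hz => mem_center_iff.mpr fun g => by
    obtain ⟨r, hr, l, hl, rfl⟩ := hmul g
    rw [mul_assoc, hLZ l hl z hz, ← mul_assoc, (mem_center_iff.mp (hRc hr) z).symm, mul_assoc]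
  -- the central part of the layer lies in `A`
  have hZE : ∀ {E : Subgroup M}, IsComponent E → (center ↥E).map E.subtype ≤ Z := fun {E} hE =>
    center_le_pCore hO hE
  have hZA : Z ≤ A := fun z hz => by
    obtain ⟨r, hr, l, hl, rfl⟩ := hmul z
    have hlz : l ∈ Z := by
      have := mul_mem (inv_mem (Subgroup.mem_inf.mp hr).2) hz
      rwa [inv_mul_cancel_left] at this
    have h1 : l ∈ (center ↥L).map L.subtype :=
      ⟨⟨l, hl⟩, mem_center_iff.mpr fun y => Subtype.ext (mem_center_iff.mp (hZc hlz) y), rfl⟩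
    rw [center_layer] at h1
    exact A.mul_mem hr.1 ((iSup_le fun E => (hB E.2).center_le :
      (⨆ E : {K : Subgroup M // IsComponent K}, (center ↥(E : Subgroup M)).map (E : Subgroup M).subtype) ≤ A) h1)
  -- the involutions of the Sylow subgroup
  have hΩ : omegaOne 2 (T : Subgroup M) ≤ A := by
    refine (closure_le _).mpr fun t ht => ?_
    obtain ⟨htT, ht2⟩ := ht
    rw [pow_two] at ht2
    obtain ⟨u, hu, hc⟩ := adjust (A := A) (x := t) fun v hv E hE => by
      have hinn : ∀ g : M, ∃ e ∈ E, e⁻¹ * g ∈ centralizer (E : Set M) := by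
        haveI := hEn hE
        haveI : (centralizer (E : Set M)).Normal := normal_centralizer
        have h : E ⊔ centralizer (E : Set M) = ⊤ := by
          refine top_le_iff.mp (hRL ▸ sup_le (fun r hr => mem_sup_right fun e _ => ?_) (sSup_le fun F hF => ?_))
          · exact mem_center_iff.mp (hRc hr) e
          · rcases components_eq_or_commute hF hE with rfl | h
            · exact le_sup_left
            · exact (commutator_eq_bot_iff_le_centralizer.mp h).trans le_sup_right
        intro g
        have hg : g ∈ ((E ⊔ centralizer (E : Set M) : Subgroup M) : Set M) := h.ge (mem_top g)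
        rw [Subgroup.normal_mul] at hg
        obtain ⟨e, he, c, hc, rfl⟩ := hg
        exact ⟨e, he, by rwa [inv_mul_cancel_left]⟩
      obtain ⟨w, hw, hwc⟩ := (hB hE).invol t htT ht2 (hinn t)
      obtain ⟨w', hw', hw'c⟩ := (hB hE).act v hv.1
      refine ⟨w' * w, mul_mem hw' hw, ?_⟩
      haveI := hEn hE
      haveI hcn : (centralizer (E : Set M)).Normal := normal_centralizer
      rw [show t * v * (w' * w) = t * (v * w') * t⁻¹ * (t * w) by group]
      exact mul_mem (hcn.conj_mem _ hw'c t) hwc
    have h1 := hZA (hcentL hc)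
    have := A.mul_mem h1 (A.inv_mem hu.1)
    rwa [mul_inv_cancel_right] at this
  have hEZΩ : ∀ {E : Subgroup M}, IsComponent E → A ⊓ E ≤ Z ⊔ omegaOne 2 (T : Subgroup M) := fun {E} hE v hv => by
    obtain ⟨z, hz, h2⟩ := (hB hE).omega v hv
    have hzZ := hZE hE hz
    have hvz : v * z ∈ omegaOne 2 (T : Subgroup M) :=
      subset_closure ⟨mul_mem (hA.le hv.1) (hZT hzZ), by rw [pow_two]; exact h2⟩
    have := mul_mem (mem_sup_right (S := Z) hvz) (inv_mem (mem_sup_left (T := omegaOne 2 (T : Subgroup M)) hzZ))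
    rwa [mul_inv_cancel_right] at this
  have hAΩ : A = Z ⊔ omegaOne 2 (T : Subgroup M) := by
    refine le_antisymm (fun a ha => ?_) (sup_le hZA hΩ)
    -- peel the components off
    haveI := Fintype.ofFinite (Subgroup M)
    suffices h : ∀ s : Finset (Subgroup M), (∀ E ∈ s, IsComponent E) →
        ∃ w ∈ A ⊓ (Z ⊔ omegaOne 2 (T : Subgroup M)), ∀ E ∈ s, a * w ∈ centralizer (E : Set M) by
      obtain ⟨w, hw, hc⟩ := h (Finset.univ.filter IsComponent) fun E hE => (Finset.mem_filter.mp hE).2
      have h1 := hcentL (y := a * w) fun E hE => hc E (Finset.mem_filter.mpr ⟨Finset.mem_univ _, hE⟩)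
      have := mul_mem (mem_sup_left (T := omegaOne 2 (T : Subgroup M)) h1) (inv_mem hw.2)
      rwa [mul_inv_cancel_right] at this
    intro s
    induction s using Finset.induction_on with
    | empty => exact fun _ => ⟨1, one_mem _, fun E hE => absurd hE (Finset.notMem_empty E)⟩
    | @insert E s hEs ih =>
      intro hs
      obtain ⟨u, hu, hc⟩ := ih fun F hF => hs F (Finset.mem_insert_of_mem hF)
      have hE := hs E (Finset.mem_insert_self _ _)
      obtain ⟨w, hw, hwc⟩ := (hB hE).act (a * u) (A.mul_mem ha hu.1)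
      refine ⟨u * w, mul_mem hu ⟨hw.1, hEZΩ hE hw⟩, fun F hF => ?_⟩
      rw [← mul_assoc]
      rcases Finset.mem_insert.mp hF with rfl | hFs
      · exact hwc
      · refine mul_mem (hc F hFs) fun f hf => ?_
        exact (comm_of_commutator_eq_bot ((components_eq_or_commute hE (hs F hF)).resolve_left
          fun e => hEs (e ▸ hFs)) hw.2 hf).symm
  -- the commutator subgroup is the layer
  have hcomL : commutator M = L := by
    refine le_antisymm ?_ (sSup_le fun E hE => ?_)
    · haveI : L.Normal := inferInstance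
      rw [_root_.commutator_def, commutator_le]
      intro x _ y _
      obtain ⟨r, hr, l, hl, rfl⟩ := hmul x
      obtain ⟨r', hr', l', hl', rfl⟩ := hmul y
      refine (QuotientGroup.eq_one_iff _).mp ?_
      show QuotientGroup.mk' L ⁅_, _⁆ = 1
      rw [map_commutatorElement, map_mul, map_mul, show QuotientGroup.mk' L l = 1 from (QuotientGroup.eq_one_iff l).mpr hl,
        show QuotientGroup.mk' L l' = 1 from (QuotientGroup.eq_one_iff l').mpr hl', mul_one, mul_one,
        commutatorElement_eq_one_iff_mul_comm, ← map_mul, ← map_mul, mem_center_iff.mp (hRc hr') r]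
    · have h := Subgroup.isPerfect_iff.mp hE.2.1
      rw [← h, _root_.commutator_def]
      exact Subgroup.commutator_mono le_top le_top
  refine ⟨?_, hZc, hAΩ, ?_⟩
  · rw [hcomL]
    exact top_le_iff.mp (hRL ▸ sup_le_sup_right inf_le_right _)
  -- the layer modulo its centre
  haveI : Fintype {E : Subgroup M // IsComponent E} := Fintype.ofFinite _
  let C := {E : Subgroup M // IsComponent E}
  let ι := Fin (Fintype.card C)
  let eι : ι ≃ C := (Fintype.equivFin C).symm
  refine ⟨ι, inferInstance, fun i => ↥(eι i : Subgroup M) ⧸ center ↥(eι i : Subgroup M), fun i => inferInstance,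
    fun i => ⟨component_isSimple (eι i).2, component_not_comm (eι i).2, (hB (eι i).2).gold⟩, ?_⟩
  let K : ι → Type u := fun i => ↥(eι i : Subgroup M) ⧸ center ↥(eι i : Subgroup M)
  have hnorm : ∀ (i : ι) (x : M), x ∈ normalizer ((eι i : Subgroup M) : Set M) := fun i x => by
    haveI := hEn (eι i).2
    rw [normalizer_eq_top]; exact mem_top x
  let acts : ∀ i : ι, M →* MulAut (K i) := fun i =>
    (actQ (eι i : Subgroup M)).comp ((MonoidHom.id M).codRestrict _ (hnorm i))
  have hinjc : ∀ i, Function.Injective (MulAut.conj : K i →* MulAut (K i)) := fun i => by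
    haveI := component_isSimple (eι i).2
    exact conj_injective (component_not_comm (eι i).2)
  have hsame : ∀ i (e : ↥(eι i : Subgroup M)), acts i e = MulAut.conj (QuotientGroup.mk' _ e) := fun i e =>
    actQ_conj (hnorm i e)
  have hother : ∀ i (F : Subgroup M), IsComponent F → F ≠ eι i → ∀ f ∈ F, acts i f = 1 := fun i F hF hne f hf => by
    refine MulEquiv.ext fun r => ?_
    obtain ⟨e, rfl⟩ := QuotientGroup.mk'_surjective _ r
    show actQ _ _ _ = _
    rw [actQ_apply, MulAut.one_apply]
    exact congrArg _ (Subtype.ext (show f * e * f⁻¹ = e by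
      rw [comm_of_commutator_eq_bot ((components_eq_or_commute hF (eι i).2).resolve_left hne) hf e.2,
        mul_inv_cancel_right]))
  have hrange : ∀ i, L ≤ (MulAut.conj : K i →* MulAut (K i)).range.comap (acts i) := fun i =>
    sSup_le fun F hF f hf => by
      by_cases h : F = eι i
      · subst h
        exact ⟨_, (hsame i ⟨f, hf⟩).symm⟩
      · rw [Subgroup.mem_comap, hother i F hF h f hf]
        exact one_mem _
  let ev : ∀ i, ↥L →* K i := fun i =>
    (MonoidHom.ofInjective (hinjc i)).symm.toMonoidHom.comp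
      (((acts i).comp L.subtype).codRestrict _ fun x => hrange i x.2)
  have hev : ∀ i (x : ↥L), MulAut.conj (ev i x) = acts i x := fun i x => by
    show ((MonoidHom.ofInjective (hinjc i)) ((MonoidHom.ofInjective (hinjc i)).symm _) : MulAut (K i)) = _
    rw [MulEquiv.apply_symm_apply]
    rfl
  let Φ : ↥L →* ((i : ι) → K i) := MonoidHom.pi ev
  have hker : Φ.ker = center ↥L := by
    ext x
    constructor
    · intro hx
      have h1 : ∀ E : Subgroup M, IsComponent E → (x : M) ∈ centralizer (E : Set M) := fun E hE => by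
        obtain ⟨i, hi⟩ := eι.surjective ⟨E, hE⟩
        have h2 : acts i x = 1 := by
          rw [← hev i x, show ev i x = 1 from congrFun hx i, map_one]
        have h3 := CfsgLib.S3Simple.centralizes_of_actQ (eι i).2 (hnorm i x) h2
        rwa [hi] at h3
      exact mem_center_iff.mpr fun y => Subtype.ext (mem_center_iff.mp (hZc (hcentL h1)) y)
    · intro hx
      refine funext fun i => hinjc i ?_
      show MulAut.conj (ev i x) = MulAut.conj 1
      rw [hev, map_one]
      refine MulEquiv.ext fun r => ?_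
      obtain ⟨e, rfl⟩ := QuotientGroup.mk'_surjective _ r
      show actQ _ _ _ = _
      rw [actQ_apply, MulAut.one_apply]
      refine congrArg _ (Subtype.ext (show (x : M) * e * (x : M)⁻¹ = e from ?_))
      have := congrArg Subtype.val (mem_center_iff.mp hx ⟨e, le_layer (eι i).2 e.2⟩)
      rw [← show (e : M) * x = x * e from this, mul_inv_cancel_right]
  have hsurj : Function.Surjective Φ := by
    rw [← MonoidHom.range_eq_top, eq_top_iff]
    intro f _
    have hsingle : ∀ i (k : K i), Pi.mulSingle i k ∈ Φ.range := fun i k => by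
      obtain ⟨e, rfl⟩ := QuotientGroup.mk'_surjective _ k
      refine ⟨⟨e, le_layer (eι i).2 e.2⟩, funext fun j => hinjc j ?_⟩
      show MulAut.conj (ev j _) = _
      rw [hev]
      by_cases h : j = i
      · subst h
        rw [Pi.mulSingle_eq_same]
        exact hsame j e
      · rw [Pi.mulSingle_eq_of_ne h, map_one]
        exact hother j _ (eι i).2 (fun e' => h (eι.injective (Subtype.ext e')).symm) _ e.2
    rw [← Finset.noncommProd_mulSingle f]
    exact Subgroup.noncommProd_mem _ _ fun i _ => hsingle i (f i)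
  have hc : (center ↥(commutator M)).map (MulEquiv.subgroupCongr hcomL).toMonoidHom = center ↥L :=
    CfsgLib.Comp.map_center_of_equiv _
  exact ⟨(QuotientGroup.congr _ _ (MulEquiv.subgroupCongr hcomL) hc).trans
    ((QuotientGroup.quotientMulEquivOfEq hker.symm).trans (QuotientGroup.quotientKerEquivOfSurjective Φ hsurj))⟩

end CfsgLib.GoldStruct
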