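import Cfsg.Agent.Lib.GoldStruct.Comp

/-!
A component moved by an abelian strongly closed 2-subgroup `A`, seen from a larger strongly closed subgroup `B`
containing `A`: an element of `B` acting trivially modulo `A` on the Sylow subgroup acts as an element of `B` inside
the component; two commuting such subgroups cannot both move the component outside `A`.
-/

set_option autoImplicit false
set_option linter.unusedSectionVars false
set_option linter.style.haveILetI false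

namespace CfsgLib.GoldStruct

open Cfsg Subgroup CfsgLib CfsgLib.Comp CfsgLib.GoldSC
open CfsgLib.S3Simple (actQ actQ_apply centralizes_of_actQ component_isSimple component_not_comm
  mem_normalizer_of_map_eq)

universe u

variable {M : Type u} [Group M] [Finite M]

/-- The coordinates on a component moved by `A`. -/
structure Frame (T : Sylow 2 M) (A E : Subgroup M) (P : Sylow 2 ↥E) (TQ : Sylow 2 (↥E ⧸ center ↥E)) : Prop where
  comp : IsComponent E
  fine : Fine TQ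
  img : (TQ : Subgroup (↥E ⧸ center ↥E)) = (P : Subgroup ↥E).map (QuotientGroup.mk' (center ↥E))
  mem : ∀ {e : ↥E}, e ∈ (P : Subgroup ↥E) ↔ (e : M) ∈ (T : Subgroup M)
  mem_of_image : ∀ {e : ↥E}, QuotientGroup.mk' (center ↥E) e ∈ (TQ : Subgroup _) → (e : M) ∈ (T : Subgroup M)
  center_le : (center ↥E).map E.subtype ≤ A
  sq : ∀ {e : ↥E}, (e : M) ∈ A → QuotientGroup.mk' (center ↥E) e * QuotientGroup.mk' (center ↥E) e = 1
  cover : ∀ x ∈ (TQ : Subgroup (↥E ⧸ center ↥E)), x * x = 1 →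
    ∃ e : ↥E, (e : M) ∈ A ∧ QuotientGroup.mk' (center ↥E) e = x
  normalizes : A ≤ normalizer (E : Set M)

variable {T : Sylow 2 M} {A E : Subgroup M}

theorem exists_frame (hO : pPrimeCore 2 M = ⊥) (hA : Ab T A) (hE : IsComponent E)
    (hne : ¬ A ≤ centralizer (E : Set M)) :
    ∃ (P : Sylow 2 ↥E) (TQ : Sylow 2 (↥E ⧸ center ↥E)), Frame T A E P TQ := by
  classical
  haveI : Fact (Nat.Prime 2) := ⟨Nat.prime_two⟩
  haveI := component_isSimple hE
  have hM : Ctx M := ⟨hO, fun Y _ _ _ => GoldSC.main Y⟩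
  have hB := exists_blk hO hA hE hne
  set π := QuotientGroup.mk' (center ↥E) with hπ
  obtain ⟨P, hP⟩ := CfsgLib.CharPLocal.exists_sylow_subnormal T hE.1
  let TQ : Sylow 2 (↥E ⧸ center ↥E) := P.mapSurjective (QuotientGroup.mk'_surjective _)
  have hPm : ∀ {e : ↥E}, e ∈ (P : Subgroup ↥E) ↔ (e : M) ∈ (T : Subgroup M) := fun {e} =>
    ⟨fun h => (hP.le (mem_map_of_mem E.subtype h)).1, fun h => by
      obtain ⟨e', he', hee⟩ := hP.ge ⟨h, e.2⟩
      exact (E.subtype_injective hee) ▸ he'⟩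
  have hmapA : ∀ {e : ↥E}, (e : M) ∈ A → π e ∈ (TQ : Subgroup _) := fun h => mem_map_of_mem _ (hPm.mpr (hA.le h))
  have hmem : ∀ {e : ↥E}, π e ∈ (TQ : Subgroup _) → (e : M) ∈ (T : Subgroup M) := fun h =>
    hM.mem_sylow_of_image T hE hP h
  obtain ⟨e₀, he₀, he₀c⟩ := exists_inside hM hA hE hne
  set S0 : Subgroup (↥E ⧸ center ↥E) := (A.subgroupOf E).map π with hS0
  have hcl : IsStronglyClosed S0 (TQ : Subgroup (↥E ⧸ center ↥E)) := by
    refine ⟨?_, ?_⟩
    · rintro _ ⟨e, he, rfl⟩; exact hmapA he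
    · rintro _ ⟨x, hx, rfl⟩ q hq
      obtain ⟨w, rfl⟩ := QuotientGroup.mk'_surjective _ q
      rw [← map_inv, ← map_mul, ← map_mul] at hq ⊢
      exact ⟨w * x * w⁻¹, hA.closed.2 (x : M) hx (w : M) (hmem hq), rfl⟩
  obtain ⟨-, hfine⟩ := fine_of_closed (component_not_comm hE) TQ S0
    (fun h => he₀c ((QuotientGroup.eq_one_iff e₀).mp (mem_bot.mp (h ▸ mem_map_of_mem π (show e₀ ∈ A.subgroupOf E from he₀)))))
    ⟨⟨by
      rintro ⟨_, x, hx, rfl⟩ ⟨_, y, hy, rfl⟩
      refine Subtype.ext ?_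
      show π x * π y = π y * π x
      rw [← map_mul, ← map_mul]
      exact congrArg _ (Subtype.ext (hA.comm hx hy))⟩⟩ hcl
  have hsq : ∀ {e : ↥E}, (e : M) ∈ A → π e * π e = 1 := fun {e} he => by
    obtain ⟨_, ⟨z, hz, rfl⟩, h⟩ := hB.omega (e : M) ⟨he, e.2⟩
    have h1 : e * z * (e * z) = 1 := Subtype.ext h
    have h2 := congrArg π h1
    rw [map_mul, map_mul, map_one, show π z = 1 from (QuotientGroup.eq_one_iff z).mpr hz, mul_one] at h2
    exact h2
  obtain ⟨k0, hk0, htr⟩ := (hfine TQ).loc.trans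
  refine ⟨P, TQ, hE, hfine TQ, rfl, hPm, hmem, hB.center_le, hsq, fun x hx hx2 => ?_, closed_normalizes hM hA hE⟩
  rcases eq_or_ne x 1 with rfl | hx1
  · exact ⟨1, A.one_mem, map_one π⟩
  obtain ⟨i, hi⟩ := htr (π e₀) (hmapA he₀) (hsq he₀) (fun h => he₀c ((QuotientGroup.eq_one_iff _).mp h)) x hx hx2 hx1
  obtain ⟨e, he, hee⟩ := hcl.2 (π e₀) ⟨e₀, he₀, rfl⟩ (k0 ^ i) (by rw [hi]; exact hx)
  exact ⟨e, he, hee.trans hi⟩

variable {P : Sylow 2 ↥E} {TQ : Sylow 2 (↥E ⧸ center ↥E)}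

theorem Frame.mapP (F : Frame T A E P TQ) {e : ↥E} (h : (e : M) ∈ (T : Subgroup M)) :
    QuotientGroup.mk' (center ↥E) e ∈ (TQ : Subgroup _) := by
  rw [F.img]; exact mem_map_of_mem _ (F.mem.mpr h)

/-- Elements over the involutions lie in `A`. -/
theorem Frame.mem_A (F : Frame T A E P TQ) {e : ↥E} (h : (e : M) ∈ (T : Subgroup M))
    (h2 : QuotientGroup.mk' (center ↥E) e * QuotientGroup.mk' (center ↥E) e = 1) : (e : M) ∈ A := by
  obtain ⟨a, ha, hae⟩ := F.cover _ (F.mapP h) h2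
  have := A.mul_mem ha (F.center_le (mem_map_of_mem E.subtype (QuotientGroup.eq.mp hae)))
  simpa using this

/-- An element centralising `A` normalises the component. -/
theorem Frame.mem_normalizer (F : Frame T A E P TQ) {x : M} (hx : ∀ a ∈ A, x * a = a * x) :
    x ∈ normalizer (E : Set M) := by
  haveI := component_isSimple F.comp
  refine mem_normalizer_of_map_eq ((components_eq_or_commute (isComponent_map_equiv (MulAut.conj x) F.comp) F.comp).resolve_right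
    fun hbot => ?_)
  obtain ⟨y, hy, hy1⟩ : ∃ y ∈ (TQ : Subgroup (↥E ⧸ center ↥E)), y * y = 1 ∧ y ≠ 1 := by
    by_contra hcon
    push Not at hcon
    have h4 := F.fine.loc.four
    have : Nat.card {z // z ∈ (TQ : Subgroup (↥E ⧸ center ↥E)) ∧ z * z = 1} ≤ Nat.card PUnit.{1} :=
      Nat.card_le_card_of_injective (fun _ => PUnit.unit) fun z w _ => Subtype.ext
        ((hcon z.1 z.2.1 z.2.2).trans (hcon w.1 w.2.1 w.2.2).symm)
    simp at this
    omega
  obtain ⟨v, hv, rfl⟩ := F.cover y hy hy1.1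
  refine hy1.2 ((QuotientGroup.eq_one_iff v).mpr (mem_center_iff.mpr fun e => Subtype.ext ?_))
  have hm : (v : M) ∈ E.map (MulAut.conj x).toMonoidHom :=
    ⟨v, v.2, show x * v * x⁻¹ = v by rw [hx _ hv, mul_inv_cancel_right]⟩
  exact (comm_of_commutator_eq_bot hbot hm e.2).symm

/-- Conjugation by an element of the normaliser of the image Sylow subgroup keeps the image of `B ∩ E`. -/
theorem Frame.image_invariant (F : Frame T A E P TQ) {B : Subgroup M} (hB : IsStronglyClosed B (T : Subgroup M))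
    {k : ↥E ⧸ center ↥E} (hk : k ∈ normalizer ((TQ : Subgroup (↥E ⧸ center ↥E)) : Set (↥E ⧸ center ↥E))) :
    ∀ r ∈ (B.subgroupOf E).map (QuotientGroup.mk' (center ↥E)),
      k * r * k⁻¹ ∈ (B.subgroupOf E).map (QuotientGroup.mk' (center ↥E)) := by
  rintro _ ⟨e, he, rfl⟩
  obtain ⟨g, rfl⟩ := QuotientGroup.mk'_surjective _ k
  have h := (mem_normalizer_iff.mp hk _).mp (F.mapP (hB.1 he))
  rw [← map_inv, ← map_mul, ← map_mul] at h ⊢
  exact ⟨g * e * g⁻¹, hB.2 (e : M) he (g : M) (F.mem_of_image h), rfl⟩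

/-- An element of `B` centralising `A` and acting trivially modulo `A` on the Sylow subgroup of the component acts
as an element of `B` inside it. -/
theorem Frame.side (F : Frame T A E P TQ) (hA : Ab T A) {B : Subgroup M} (hB : IsStronglyClosed B (T : Subgroup M))
    (hAB : A ≤ B) {x : M} (hx : x ∈ B) (hxA : ∀ a ∈ A, x * a = a * x)
    (hd : ∀ p ∈ (T : Subgroup M), p ∈ E → x * p * x⁻¹ * p⁻¹ ∈ A) :
    ∃ w ∈ B ⊓ E, x * w ∈ centralizer (E : Set M) := by
  classical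
  haveI : Fact (Nat.Prime 2) := ⟨Nat.prime_two⟩
  haveI := component_isSimple F.comp
  set π := QuotientGroup.mk' (center ↥E) with hπ
  have hinj := conj_injective (K := ↥E ⧸ center ↥E) (component_not_comm F.comp)
  have hEE : E ≤ normalizer (E : Set M) := le_normalizer
  obtain ⟨k0, hk0, htr⟩ := F.fine.loc.trans
  -- inner
  have hinner : ∀ (j : ℕ), ∀ x, ∀ hx : x ∈ B, ∀ hxA : (∀ a ∈ A, x * a = a * x),
      (∀ p ∈ (T : Subgroup M), p ∈ E → x * p * x⁻¹ * p⁻¹ ∈ A) → x ^ 2 ^ j = 1 →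
      ∃ q ∈ (TQ : Subgroup (↥E ⧸ center ↥E)), actQ E ⟨x, F.mem_normalizer hxA⟩ = MulAut.conj q := by
    intro j
    induction j with
    | zero =>
      intro x hx hxA _ h
      rw [pow_zero, pow_one] at h
      subst h
      exact ⟨1, one_mem _, by rw [map_one, show (⟨(1 : M), F.mem_normalizer hxA⟩ : normalizer (E : Set M)) = 1 from rfl, map_one]⟩
    | succ j ih =>
      intro x hx hxA hd h
      set φ := actQ E ⟨x, F.mem_normalizer hxA⟩ with hφ
      have hxx : ∀ a ∈ A, x * x * a = a * (x * x) := fun a ha => by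
        rw [mul_assoc, hxA a ha, ← mul_assoc, hxA a ha, mul_assoc]
      have hd2 : ∀ p ∈ (T : Subgroup M), p ∈ E → x * x * p * (x * x)⁻¹ * p⁻¹ =
          (x * p * x⁻¹ * p⁻¹) * (x * p * x⁻¹ * p⁻¹) := fun p hp hpE => by
        have hc := hxA _ (hd p hp hpE)
        calc x * x * p * (x * x)⁻¹ * p⁻¹ = x * (x * p * x⁻¹ * p⁻¹) * p * x⁻¹ * p⁻¹ := by group
          _ = (x * p * x⁻¹ * p⁻¹) * x * p * x⁻¹ * p⁻¹ := by rw [hc]
          _ = _ := by group
      obtain ⟨q, hq, hqe⟩ := ih (x * x) (B.mul_mem hx hx) hxx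
        (fun p hp hpE => by rw [hd2 p hp hpE]; exact A.mul_mem (hd p hp hpE) (hd p hp hpE))
        (by rw [← pow_two, ← pow_mul, ← pow_succ', h])
      have hφφ : φ * φ = MulAut.conj q := by rw [hφ, ← map_mul, ← hqe]; rfl
      have hqc : ∀ r ∈ (TQ : Subgroup (↥E ⧸ center ↥E)), q * r = r * q := by
        intro r hr
        rw [F.img] at hr
        obtain ⟨p, hp, rfl⟩ := hr
        have hpT := F.mem.mp hp
        have hdA := hd p hpT p.2
        have hmem : x * p * x⁻¹ * (p : M)⁻¹ ∈ E :=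
          mul_mem ((mem_normalizer_iff.mp (F.mem_normalizer hxA) _).mp p.2) (inv_mem p.2)
        have h2 := F.sq (e := ⟨_, hmem⟩) hdA
        have e : MulAut.conj q (π p) = π ⟨_, hmem⟩ * π ⟨_, hmem⟩ * π p := by
          rw [← hqe, actQ_apply, ← map_mul, ← map_mul]
          refine congrArg π (Subtype.ext ?_)
          show x * x * p * (x * x)⁻¹ = x * p * x⁻¹ * (p : M)⁻¹ * (x * p * x⁻¹ * (p : M)⁻¹) * p
          rw [← hd2 p hpT p.2, inv_mul_cancel_right]
        rw [h2, one_mul, MulAut.conj_apply, mul_inv_eq_iff_eq_mul] at e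
        exact e
      have hq2 : q * q = 1 := by
        let C0 : Subgroup (↥E ⧸ center ↥E) := (TQ : Subgroup _) ⊓ centralizer ((TQ : Subgroup (↥E ⧸ center ↥E)) : Set (↥E ⧸ center ↥E))
        refine F.fine.pinned C0 inf_le_left (fun a ha b hb => (mem_inf.mp hb).2 a (mem_inf.mp ha).1)
          (fun k hk a ha => mem_inf.mpr ⟨(mem_normalizer_iff.mp hk a).mp (mem_inf.mp ha).1, fun r hr => ?_⟩)
          q (mem_inf.mpr ⟨hq, fun r hr => (hqc r hr).symm⟩)
        have hr' : k⁻¹ * r * k ∈ (TQ : Subgroup _) := (mem_normalizer_iff''.mp hk r).mp hr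
        have hc := (mem_inf.mp ha).2 _ hr'
        calc r * (k * a * k⁻¹) = k * (k⁻¹ * r * k * a) * k⁻¹ := by group
          _ = k * (a * (k⁻¹ * r * k)) * k⁻¹ := by rw [hc]
          _ = _ := by group
      refine F.fine.inner φ q hq hq2 hφφ (fun r hr hr2 => ?_) fun r hr => ?_
      · obtain ⟨e, he, rfl⟩ := F.cover r hr hr2
        rw [hφ, actQ_apply]
        exact congrArg π (Subtype.ext (show x * (e : M) * x⁻¹ = e by rw [hxA _ he, mul_inv_cancel_right]))
      · rw [F.img] at hr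
        obtain ⟨p, hp, rfl⟩ := hr
        have hmE : x * p * x⁻¹ ∈ E := (mem_normalizer_iff.mp (F.mem_normalizer hxA) p).mp p.2
        set d : ↥E := ⟨x * p * x⁻¹, hmE⟩ * p⁻¹ with hdd
        have hdA : (d : M) ∈ A := hd p (F.mem.mp hp) p.2
        have he : φ (π p) * (π p)⁻¹ = π d := by rw [hφ, hdd, map_mul, map_inv]; rfl
        rw [he]
        exact ⟨F.mapP (hA.le hdA), F.sq hdA⟩
  obtain ⟨j, hj⟩ := T.2 ⟨x, hB.1 hx⟩
  obtain ⟨s, hs, hse⟩ := hinner j x hx hxA hd (congrArg Subtype.val hj)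
  -- `s` lies in the image of `B ∩ E`
  set R : Subgroup (↥E ⧸ center ↥E) := (B.subgroupOf E).map π with hR
  have hTQn : ∀ t ∈ (TQ : Subgroup (↥E ⧸ center ↥E)),
      t ∈ normalizer ((TQ : Subgroup (↥E ⧸ center ↥E)) : Set (↥E ⧸ center ↥E)) := fun t ht => le_normalizer ht
  have hRinv : ∀ {k}, k ∈ normalizer ((TQ : Subgroup (↥E ⧸ center ↥E)) : Set (↥E ⧸ center ↥E)) →
      ∀ r ∈ R, k * r * k⁻¹ ∈ R := fun hk => F.image_invariant hB hk
  have hVR : ∀ v ∈ (TQ : Subgroup (↥E ⧸ center ↥E)), v * v = 1 → v ∈ R := fun v hv hv2 => by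
    obtain ⟨e, he, rfl⟩ := F.cover v hv hv2
    exact ⟨e, hAB he, rfl⟩
  have hstep : ∀ k ∈ normalizer ((TQ : Subgroup (↥E ⧸ center ↥E)) : Set (↥E ⧸ center ↥E)),
      k * s * k⁻¹ * s⁻¹ ∈ R := by
    intro k hk
    obtain ⟨g, rfl⟩ := QuotientGroup.mk'_surjective _ k
    have hN := F.mem_normalizer hxA
    have hg : (g : M) * x * (g : M)⁻¹ * x⁻¹ ∈ E := by
      rw [mul_assoc (g : M), mul_assoc (g : M)]
      exact mul_mem g.2 ((mem_normalizer_iff.mp hN _).mp (inv_mem g.2))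
    have himg : π ⟨_, hg⟩ = π g * s * (π g)⁻¹ * s⁻¹ := by
      have h1 : (⟨(g : M) * x * (g : M)⁻¹ * x⁻¹, hg⟩ : ↥E) =
          g * ⟨x * ((g⁻¹ : ↥E) : M) * x⁻¹, (mem_normalizer_iff.mp hN _).mp (g⁻¹).2⟩ :=
        Subtype.ext (by simp [mul_assoc])
      rw [h1, map_mul, ← actQ_apply (x := ⟨x, hN⟩), hse, MulAut.conj_apply, map_inv]
      group
      rfl
    have hT : (g : M) * x * (g : M)⁻¹ ∈ (T : Subgroup M) := by
      have h2 := F.mem_of_image (e := ⟨_, hg⟩)
        (himg.symm ▸ mul_mem ((mem_normalizer_iff.mp hk s).mp hs) (inv_mem hs))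
      have := mul_mem h2 (hB.1 hx)
      rwa [inv_mul_cancel_right] at this
    exact ⟨⟨_, hg⟩, B.mul_mem (hB.2 x hx g hT) (B.inv_mem hx), himg⟩
  -- an element of odd order with no fixed involution
  obtain ⟨a, m, hm, hord⟩ := Nat.exists_eq_two_pow_mul_odd (orderOf_pos k0).ne'
  set k := k0 ^ 2 ^ a with hk
  have hkN := pow_mem hk0 (2 ^ a)
  have hkm : k ^ m = 1 := by rw [hk, ← pow_mul, ← hord, pow_orderOf_eq_one]
  have hfix : ∀ v ∈ (TQ : Subgroup (↥E ⧸ center ↥E)), v * v = 1 → k * v * k⁻¹ = v → v = 1 := by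
    intro v hv hv2 hfx
    by_contra hv1
    have h2 : k0 ^ m ∈ (TQ : Subgroup _) := by
      have hp : IsPGroup 2 (zpowers (k0 ^ m)) := CfsgLib.Comp.zpowers_isPGroup (n := a) (by
        rw [← pow_mul, mul_comm, ← hord, pow_orderOf_eq_one])
      exact (mem_inf.mp ((hp.inf_normalizer_sylow TQ) ▸ mem_inf.mpr ⟨mem_zpowers _, pow_mem hk0 m⟩ :
        k0 ^ m ∈ zpowers (k0 ^ m) ⊓ (TQ : Subgroup _))).2
    have hc1 : Commute (k0 ^ m) v := (F.fine.loc.central v hv hv2 _ h2).symm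
    have hc2 : Commute k v := mul_inv_eq_iff_eq_mul.mp hfx
    have hc : Commute k0 v := by
      have hco : Nat.Coprime (2 ^ a) m := (Nat.coprime_two_left.mpr hm).pow_left a
      obtain ⟨u, w, huw⟩ : ∃ u w : ℤ, ((2 ^ a : ℕ) : ℤ) * u + (m : ℤ) * w = 1 :=
        ⟨Nat.gcdA (2 ^ a) m, Nat.gcdB (2 ^ a) m, by rw [← Nat.gcd_eq_gcd_ab, hco.gcd_eq_one]; rfl⟩
      have : k0 = (k0 ^ (2 ^ a : ℕ)) ^ u * (k0 ^ m) ^ w := by
        rw [← zpow_natCast, ← zpow_natCast k0 m, ← zpow_mul, ← zpow_mul, ← zpow_add, huw, zpow_one]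
      rw [this]
      exact (hc2.zpow_left u).mul_left (hc1.zpow_left w)
    obtain ⟨y, hy, hy2, hy1, hyv⟩ : ∃ y, y ∈ (TQ : Subgroup _) ∧ y * y = 1 ∧ y ≠ 1 ∧ y ≠ v := by
      by_contra hcon
      push Not at hcon
      have h4 := F.fine.loc.four
      have : Nat.card {z // z ∈ (TQ : Subgroup (↥E ⧸ center ↥E)) ∧ z * z = 1} ≤ Nat.card Bool := by
        refine Nat.card_le_card_of_injective (fun z => decide (z.1 = 1)) fun z w hzw => Subtype.ext ?_
        have h' := decide_eq_decide.mp hzw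
        by_cases hz : z.1 = 1
        · rw [hz, h'.mp hz]
        · rw [hcon z.1 z.2.1 z.2.2 hz, hcon w.1 w.2.1 w.2.2 fun hw => hz (h'.mpr hw)]
      rw [Nat.card_eq_fintype_card (α := Bool), Fintype.card_bool] at this
      omega
    obtain ⟨i, hi⟩ := htr v hv hv2 hv1 y hy hy2 hy1
    rw [(hc.pow_left i).eq, mul_inv_cancel_right] at hi
    exact hyv hi.symm
  -- the norm of `s`
  let n : ℕ → ↥E ⧸ center ↥E := fun i => Nat.rec 1 (fun i t => t * (k ^ i * s * (k ^ i)⁻¹)) i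
  have hn0 : n 0 = 1 := rfl
  have hns : ∀ i, n (i + 1) = n i * (k ^ i * s * (k ^ i)⁻¹) := fun i => rfl
  have hnT : ∀ i, n i ∈ (TQ : Subgroup _) := fun i => by
    induction i with
    | zero => exact one_mem _
    | succ i ih => rw [hns]; exact mul_mem ih ((mem_normalizer_iff.mp (pow_mem hkN i) s).mp hs)
  have hleft : ∀ i, n (i + 1) = s * (k * n i * k⁻¹) := fun i => by
    induction i with
    | zero => rw [hns, hn0]; group
    | succ i ih =>
      conv_lhs => rw [hns (i + 1), ih]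
      rw [hns i, pow_succ']; group
  have hnR : ∀ i, n i * (s ^ i)⁻¹ ∈ R := fun i => by
    induction i with
    | zero => simp [hn0]
    | succ i ih =>
      have h1 := hstep _ (pow_mem hkN i)
      have h2 := hRinv (hTQn _ (pow_mem hs i)) _ h1
      have := mul_mem ih h2
      rw [show n (i + 1) * (s ^ (i + 1))⁻¹ = n i * (s ^ i)⁻¹ * (s ^ i * (k ^ i * s * (k ^ i)⁻¹ * s⁻¹) * (s ^ i)⁻¹) by
        rw [hns, pow_succ]; group]
      exact this
  set N := n m with hN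
  have hNT := hnT m
  have hNfix : k * N * k⁻¹ = s⁻¹ * N * s := by
    have h1 : n (m + 1) = N * s := by rw [hns, hkm, one_mul, inv_one, mul_one]
    rw [hleft] at h1
    rw [mul_assoc s⁻¹, ← h1, inv_mul_cancel_left]
  have hNN : k * (N * N) * k⁻¹ = N * N := by
    calc k * (N * N) * k⁻¹ = (k * N * k⁻¹) * (k * N * k⁻¹) := by group
      _ = s⁻¹ * (N * N) * s := by rw [hNfix]; group
      _ = N * N := by
        rw [mul_assoc, F.fine.loc.central (N * N) (mul_mem hNT hNT) (F.fine.sq N hNT) s hs, inv_mul_cancel_left]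
  have hN2 : N * N = 1 := hfix _ (mul_mem hNT hNT) (F.fine.sq N hNT) hNN
  have hsm : s ^ m ∈ R := by
    have := mul_mem (inv_mem (hnR m)) (hVR N hNT hN2)
    simpa [hN] using this
  have hsR : s ∈ R := by
    obtain ⟨l, rfl⟩ := hm
    have hss : s * s ∈ R := hVR _ (mul_mem hs hs) (F.fine.sq s hs)
    have h := mul_mem (inv_mem (pow_mem hss l)) hsm
    rwa [pow_succ, pow_mul, pow_two, inv_mul_cancel_left] at h
  obtain ⟨e, he, hee⟩ := hsR
  refine ⟨((e⁻¹ : ↥E) : M), ⟨B.inv_mem he, (e⁻¹).2⟩, ?_⟩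
  refine centralizes_of_actQ F.comp (mul_mem (F.mem_normalizer hxA) (hEE (e⁻¹).2)) ?_
  rw [show (⟨x * ((e⁻¹ : ↥E) : M), mul_mem (F.mem_normalizer hxA) (hEE (e⁻¹).2)⟩ : normalizer (E : Set M)) =
    ⟨x, F.mem_normalizer hxA⟩ * ⟨((e⁻¹ : ↥E) : M), hEE (e⁻¹).2⟩ from rfl, map_mul, hse,
    actQ_conj (hEE (e⁻¹).2), ← map_mul, map_inv, hee, mul_inv_cancel, map_one]

/-- Two commuting strongly closed subgroups over `A` do not both meet the component outside `A`. -/
theorem Frame.dichotomy (F : Frame T A E P TQ) {B₁ B₂ : Subgroup M}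
    (h₁ : IsStronglyClosed B₁ (T : Subgroup M)) (h₂ : IsStronglyClosed B₂ (T : Subgroup M))
    (hc : ∀ a ∈ B₁, ∀ b ∈ B₂, a * b = b * a) : B₁ ⊓ E ≤ A ∨ B₂ ⊓ E ≤ A := by
  set π := QuotientGroup.mk' (center ↥E) with hπ
  by_contra hcon
  rw [not_or, SetLike.not_le_iff_exists, SetLike.not_le_iff_exists] at hcon
  obtain ⟨⟨a, ⟨ha, haE⟩, haA⟩, ⟨b, ⟨hb, hbE⟩, hbA⟩⟩ := hcon
  have ha2 : π ⟨a, haE⟩ * π ⟨a, haE⟩ ≠ 1 := fun h => haA (F.mem_A (e := ⟨a, haE⟩) (h₁.1 ha) h)
  refine hbA (F.mem_A (e := ⟨b, hbE⟩) (h₂.1 hb) ?_)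
  set R := (B₂.subgroupOf E).map π with hR
  have hle : R ≤ (TQ : Subgroup _) := by
    rintro _ ⟨e, he, rfl⟩
    exact F.mapP (h₂.1 he)
  have hcomm : ∀ r ∈ R, π ⟨a, haE⟩ * r = r * π ⟨a, haE⟩ := by
    rintro _ ⟨e, he, rfl⟩
    rw [← map_mul, ← map_mul]
    exact congrArg π (Subtype.ext (hc a ha e he))
  exact F.fine.pinned R hle
    (fun u hu v hv => F.fine.ct _ (F.mapP (h₁.1 ha)) ha2 u (hle hu) v (hle hv) (hcomm u hu) (hcomm v hv))
    (fun k hk => F.image_invariant h₂ hk) _ ⟨⟨b, hbE⟩, hb, rfl⟩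

end CfsgLib.GoldStruct
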