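import Cfsg.Agent.Lib.GoldSC.LocalU3

/-!
An automorphism of `U₃(2^n)` whose square is conjugation by an involution of the Sylow subgroup, and which is trivial
on the involutions and modulo them, is inner; no element outside the involutions is fixed modulo them by the torus
element centralising them.
-/

set_option autoImplicit false
set_option linter.unusedSectionVars false
set_option linter.style.haveILetI false

namespace CfsgLib.GoldStruct.U3

open Subgroup CfsgLib.PSUBorel CfsgLib.PSU3Min CfsgLib.BinaryCoset CfsgLib.UnitarySylowAut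
open CfsgLib.CyclicInt (Two dg_mul dg_one)
open CfsgLib.GoldSC.LU3

variable {F : Type} [Field F] [Fintype F] (c : Conj F) [CharP F 2] (hq : 4 ≤ c.q)

theorem eq_one_of_fixed {g h : K₀ c} (hT : Torus c g h) {a : K₀ c} (ha : a ∈ TT c)
    (hd : a⁻¹ * (h * a * h⁻¹) * (a⁻¹ * (h * a * h⁻¹)) = 1) : a * a = 1 := by
  classical
  have hh : h ∈ normalizer (TT c : Set (K₀ c)) := by
    obtain ⟨i, rfl⟩ := hT.pow
    exact pow_mem hT.norm i
  have hconj : ∀ {t}, t ∈ TT c → h * t * h⁻¹ * t⁻¹ ∈ TT c := fun {t} ht =>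
    mul_mem ((mem_normalizer_iff.mp hh t).mp ht) (inv_mem ht)
  let V : Subgroup (TT c) :=
    { carrier := {x | (x : K₀ c) * x = 1}
      one_mem' := mul_one 1
      mul_mem' := fun {x y} hx hy => by
        have hc := sq_central c x.2 hx y.2
        show (x : K₀ c) * y * (x * y) = 1
        calc (x : K₀ c) * y * (x * y) = x * (y * x) * y := by group
          _ = x * (x * y) * y := by rw [hc]
          _ = x * x * (y * y) := by group
          _ = 1 := by rw [show (x : K₀ c) * x = 1 from hx, show (y : K₀ c) * y = 1 from hy, one_mul]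
      inv_mem' := fun {x} hx => by
        show (x : K₀ c)⁻¹ * (x : K₀ c)⁻¹ = 1
        rw [← _root_.mul_inv_rev, show (x : K₀ c) * x = 1 from hx, inv_one] }
  have hwell : ∀ t u : TT c, t⁻¹ * u ∈ V →
      h * (t : K₀ c) * h⁻¹ * (t : K₀ c)⁻¹ = h * (u : K₀ c) * h⁻¹ * (u : K₀ c)⁻¹ := by
    intro t u hv
    have hv' : ((t : K₀ c)⁻¹ * u) * ((t : K₀ c)⁻¹ * u) = 1 := hv
    set v := (t : K₀ c)⁻¹ * u
    have hvT : v ∈ TT c := mul_mem (inv_mem t.2) u.2
    have e : (u : K₀ c) = t * v := by simp [v]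
    rw [e]
    calc h * (t : K₀ c) * h⁻¹ * (t : K₀ c)⁻¹ = h * t * h⁻¹ * (v * (t : K₀ c)⁻¹ * v⁻¹) := by
          rw [sq_central c hvT hv' (inv_mem t.2), mul_inv_cancel_right]
      _ = h * t * h⁻¹ * (h * v * h⁻¹) * (t : K₀ c)⁻¹ * v⁻¹ := by rw [hT.cent v hvT hv']; group
      _ = h * ((t : K₀ c) * v) * h⁻¹ * (v * t)⁻¹ := by group
      _ = _ := by rw [sq_central c hvT hv' t.2]
  let Φ : (TT c ⧸ V) × V → TT c := fun p =>
    Quotient.liftOn p.1 (fun t : TT c => (p.2 : TT c) * ⟨_, hconj t.2⟩)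
      fun t u htu => congrArg _ (Subtype.ext (hwell t u (QuotientGroup.leftRel_apply.mp htu)))
  have hΦ : Function.Surjective Φ := fun x => by
    obtain ⟨t, ht, v, hv, hv2, hx⟩ := hT.spread x x.2
    exact ⟨(QuotientGroup.mk ⟨t, ht⟩, ⟨⟨v, hv⟩, hv2⟩), Subtype.ext hx.symm⟩
  have hcard : Nat.card ((TT c ⧸ V) × V) = Nat.card (TT c) := by
    rw [Nat.card_prod]; exact (card_eq_card_quotient_mul_card_subgroup V).symm
  have hinj := ((Nat.bijective_iff_surjective_and_card Φ).mpr ⟨hΦ, hcard⟩).1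
  set d := a⁻¹ * (h * a * h⁻¹) with hd'
  have hdT : d ∈ TT c := mul_mem (inv_mem ha) ((mem_normalizer_iff.mp hh a).mp ha)
  have e : h * a * h⁻¹ * a⁻¹ = d := by
    calc h * a * h⁻¹ * a⁻¹ = a * d * a⁻¹ := by rw [hd']; group
      _ = d := by rw [← sq_central c hdT hd ha, mul_inv_cancel_right]
  have h1 := @hinj (QuotientGroup.mk ⟨a, ha⟩, (⟨⟨d, hdT⟩, hd⟩ : V)⁻¹) (QuotientGroup.mk 1, 1) (Subtype.ext (by
    show d⁻¹ * (h * a * h⁻¹ * a⁻¹) = 1 * (h * 1 * h⁻¹ * 1⁻¹)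
    rw [e]; group))
  have h2 := QuotientGroup.eq.mp (congrArg Prod.fst h1).symm
  simpa [V] using h2

variable [IsSimpleGroup (K₀ c)] {T : Sylow 2 (K₀ c)} (hT : (T : Subgroup (K₀ c)) = TT c)
include hq hT

theorem inner_four (hi : InnerFix.InnerFix 2 (K₀ c)) (φ : MulAut (K₀ c)) {q : K₀ c} (hq' : q ∈ TT c)
    (hq2 : q * q = 1) (h2 : φ * φ = MulAut.conj q)
    (hfix : ∀ x ∈ TT c, x * x = 1 → φ x = x)
    (hd : ∀ x ∈ TT c, φ x * x⁻¹ ∈ TT c ∧ φ x * x⁻¹ * (φ x * x⁻¹) = 1) :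
    ∃ s ∈ TT c, φ = MulAut.conj s := by
  obtain ⟨g, h, hT'⟩ := exists_torus c hq
  have hV : ∀ {x}, x ∈ TT c → x * x = 1 → g * x * g⁻¹ ∈ TT c ∧ g * x * g⁻¹ * (g * x * g⁻¹) = 1 := fun {x} hx hx2 =>
    ⟨(mem_normalizer_iff.mp hT'.norm x).mp hx, by
      rw [show g * x * g⁻¹ * (g * x * g⁻¹) = g * (x * x) * g⁻¹ by group, hx2, mul_one, mul_inv_cancel]⟩
  have hφφ : ∀ x, φ (φ x) = q * x * q⁻¹ := fun x => DFunLike.congr_fun h2 x
  have hinvol : ∀ {x}, x ∈ TT c → φ (φ x) = x := fun {x} hx => by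
    rw [hφφ, sq_central c hq' hq2 hx, mul_inv_cancel_right]
  have hφT : ∀ {x}, x ∈ TT c → φ x ∈ TT c := fun {x} hx => by
    simpa using mul_mem (hd x hx).1 hx
  set k := g⁻¹ * φ g with hk
  have hg' : φ g = g * k := by rw [hk, mul_inv_cancel_left]
  -- `k` is a two-element normalising `T`
  have hkV : ∀ v ∈ TT c, v * v = 1 → k * v = v * k := fun v hv hv2 => by
    have e : φ g * v * (φ g)⁻¹ = g * v * g⁻¹ := by
      conv_lhs => rw [← hfix v hv hv2]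
      rw [← map_inv, ← map_mul, ← map_mul, hfix _ (hV hv hv2).1 (hV hv hv2).2]
    rw [hg'] at e
    calc k * v = g⁻¹ * (g * k * v * (g * k)⁻¹) * g * k := by group
      _ = g⁻¹ * (g * v * g⁻¹) * g * k := by rw [e]
      _ = _ := by group
  have hkT : ∀ t ∈ TT c, ∃ v ∈ TT c, v * v = 1 ∧ k * t * k⁻¹ = v * t := fun t ht => by
    have hs := hφT ht
    set s := φ t with hsd
    set r := g * s * g⁻¹ with hr'
    have hr : r ∈ TT c := (mem_normalizer_iff.mp hT'.norm s).mp hs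
    obtain ⟨hv1, hv2⟩ := hd r hr
    obtain ⟨hw1, hw2⟩ := hd t ht
    have hgi : ∀ {x}, x ∈ TT c → x * x = 1 → g⁻¹ * x * g ∈ TT c ∧ g⁻¹ * x * g * (g⁻¹ * x * g) = 1 :=
      fun {x} hx hx2 => ⟨by
        have := (mem_normalizer_iff.mp (inv_mem hT'.norm) x).mp hx
        rwa [inv_inv] at this, by
        rw [show g⁻¹ * x * g * (g⁻¹ * x * g) = g⁻¹ * (x * x) * g by group, hx2, mul_one, inv_mul_cancel]⟩
    obtain ⟨ha, ha2⟩ := hgi hv1 hv2
    refine ⟨g⁻¹ * (φ r * r⁻¹) * g * (s * t⁻¹), mul_mem ha hw1, ?_, ?_⟩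
    · have hcm := sq_central c hw1 hw2 ha
      calc g⁻¹ * (φ r * r⁻¹) * g * (s * t⁻¹) * (g⁻¹ * (φ r * r⁻¹) * g * (s * t⁻¹))
          = g⁻¹ * (φ r * r⁻¹) * g * ((s * t⁻¹) * (g⁻¹ * (φ r * r⁻¹) * g)) * (s * t⁻¹) := by group
        _ = g⁻¹ * (φ r * r⁻¹) * g * ((g⁻¹ * (φ r * r⁻¹) * g) * (s * t⁻¹)) * (s * t⁻¹) := by rw [hcm]
        _ = g⁻¹ * (φ r * r⁻¹) * g * (g⁻¹ * (φ r * r⁻¹) * g) * ((s * t⁻¹) * (s * t⁻¹)) := by group
        _ = 1 := by rw [ha2, hw2, one_mul]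
    · have e : φ r = φ g * t * (φ g)⁻¹ := by rw [hr', map_mul, map_mul, map_inv, hsd, hinvol ht]
      rw [e, hg', hr']
      group
  have hkn : k ∈ normalizer (TT c : Set (K₀ c)) := by
    have hfwd : ∀ t ∈ TT c, k * t * k⁻¹ ∈ TT c := fun t ht => by
      obtain ⟨v, hv, -, e⟩ := hkT t ht
      rw [e]; exact mul_mem hv ht
    rw [mem_normalizer_iff]
    refine fun x => ⟨hfwd x, fun hx => ?_⟩
    obtain ⟨v, hv, hv2, e⟩ := hkT _ hx
    have hv' : k * v * k⁻¹ = v := by rw [hkV v hv hv2, mul_inv_cancel_right]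
    have e2 : k * x * k⁻¹ = v * x := by
      calc k * x * k⁻¹ = k⁻¹ * (k * (k * x * k⁻¹) * k⁻¹) * k := by group
        _ = k⁻¹ * (v * (k * x * k⁻¹)) * k := by rw [e]
        _ = k⁻¹ * v * k * x := by group
        _ = k⁻¹ * (k * v) * x := by rw [mul_assoc k⁻¹, hkV v hv hv2]
        _ = _ := by rw [inv_mul_cancel_left]
    rw [e2] at hx
    simpa using mul_mem (inv_mem hv) hx
  have hkk : k * k ∈ TT c := by
    refine mem_of_centralizes c fun t ht => ?_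
    obtain ⟨v, hv, hv2, e⟩ := hkT t ht
    have : k * k * t * (k * k)⁻¹ = t := by
      calc k * k * t * (k * k)⁻¹ = k * (k * t * k⁻¹) * k⁻¹ := by group
        _ = k * (v * t) * k⁻¹ := by rw [e]
        _ = (k * v * k⁻¹) * (k * t * k⁻¹) := by group
        _ = v * (v * t) := by rw [e, hkV v hv hv2, mul_inv_cancel_right]
        _ = t := by rw [← mul_assoc, hv2, one_mul]
    exact mul_inv_eq_iff_eq_mul.mp this
  have hkmem : k ∈ TT c := by
    obtain ⟨j, hj⟩ := two_of_mem c hkk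
    exact two_mem c hT hkn ⟨j + 1, by rw [pow_succ', pow_mul, pow_two, hj]⟩
  -- conjugate `φ` so that it fixes `g`
  let F0 : TT c → TT c := fun s => ⟨g⁻¹ * s * g * (s : K₀ c)⁻¹, mul_mem (by
    have := (mem_normalizer_iff.mp (inv_mem hT'.norm) s).mp s.2
    rwa [inv_inv] at this) (inv_mem s.2)⟩
  have hF : Function.Injective F0 := fun s r e => Subtype.ext (by
    have e' : g⁻¹ * s * g * (s : K₀ c)⁻¹ = g⁻¹ * r * g * (r : K₀ c)⁻¹ := congrArg Subtype.val e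
    refine (inv_mul_eq_one.mp (hT'.free _ (mul_mem (inv_mem r.2) s.2) ?_)).symm
    calc g * ((r : K₀ c)⁻¹ * s) * g⁻¹
        = (r : K₀ c)⁻¹ * g * (g⁻¹ * r * g * (r : K₀ c)⁻¹) * s * g⁻¹ := by group
      _ = (r : K₀ c)⁻¹ * g * (g⁻¹ * s * g * (s : K₀ c)⁻¹) * s * g⁻¹ := by rw [e']
      _ = _ := by group)
  obtain ⟨⟨s, hs⟩, hse⟩ := Finite.surjective_of_injective hF ⟨k, hkmem⟩
  have hgs : φ g = s * g * s⁻¹ := by
    have e : g⁻¹ * s * g * s⁻¹ = k := congrArg Subtype.val hse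
    rw [hg', ← e]
    group
  set ψ := MulAut.conj s⁻¹ * φ with hψ
  have hψa : ∀ x, ψ x = s⁻¹ * φ x * s := fun x => by simp [hψ]
  have hψg : ψ g = g := by rw [hψa, hgs]; group
  have hψV : ∀ v ∈ TT c, v * v = 1 → ψ v = v := fun v hv hv2 => by
    rw [hψa, hfix v hv hv2, mul_assoc, sq_central c hv hv2 hs, inv_mul_cancel_left]
  have hψT : ∀ x ∈ TT c, ψ x = x := by
    -- modulo the elements squaring to one, `ψ` is conjugation by `s⁻¹`
    intro x hx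
    obtain ⟨t, ht, v, hv, hv2, rfl⟩ := hT'.spread x hx
    have hψh : ψ h = h := by
      obtain ⟨i, hi⟩ := hT'.pow
      rw [hi, map_pow, hψg]
    have hA : ∀ y ∈ TT c, y * y * (y * y) = 1 := fun y hy => sq_mem c y hy
    obtain ⟨hw, hw2⟩ := hd t ht
    -- the displacement of `t`
    set d := ψ t * t⁻¹ with hdd
    have hdmem : d ∈ TT c := by
      rw [hdd, hψa]; exact mul_mem (mul_mem (mul_mem (inv_mem hs) (hφT ht)) hs) (inv_mem ht)
    have hd2 : d * d = 1 := by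
      have e : d = (s⁻¹ * (φ t * t⁻¹) * s) * (s⁻¹ * t * s * t⁻¹) := by rw [hdd, hψa]; group
      have e1 : s⁻¹ * (φ t * t⁻¹) * s = φ t * t⁻¹ := by
        rw [mul_assoc, sq_central c hw hw2 hs, inv_mul_cancel_left]
      obtain ⟨hc1, hc2⟩ := commutator_mem c (inv_mem hs) ht
      rw [inv_inv] at hc1 hc2
      rw [e, e1]
      calc φ t * t⁻¹ * (s⁻¹ * t * s * t⁻¹) * (φ t * t⁻¹ * (s⁻¹ * t * s * t⁻¹))
          = φ t * t⁻¹ * ((s⁻¹ * t * s * t⁻¹) * (φ t * t⁻¹)) * (s⁻¹ * t * s * t⁻¹) := by group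
        _ = φ t * t⁻¹ * ((φ t * t⁻¹) * (s⁻¹ * t * s * t⁻¹)) * (s⁻¹ * t * s * t⁻¹) := by
              rw [sq_central c hw hw2 hc1]
        _ = (φ t * t⁻¹) * (φ t * t⁻¹) * ((s⁻¹ * t * s * t⁻¹) * (s⁻¹ * t * s * t⁻¹)) := by group
        _ = 1 := by rw [hw2, hc2, one_mul]
    have hψt : ψ t = d * t := by rw [hdd, inv_mul_cancel_right]
    have hcd : h * d * h⁻¹ = d := hT'.cent d hdmem hd2
    have hht : h * t * h⁻¹ ∈ TT c := by
      obtain ⟨i, hi⟩ := hT'.pow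
      exact (mem_normalizer_iff.mp (hi ▸ pow_mem hT'.norm i) t).mp ht
    rw [map_mul, hψV v hv hv2, map_mul, map_mul, map_mul, map_inv, map_inv, hψh, hψt]
    calc v * (h * (d * t) * h⁻¹ * (d * t)⁻¹) = v * ((h * d * h⁻¹) * (h * t * h⁻¹) * t⁻¹ * d⁻¹) := by group
      _ = v * (d * (h * t * h⁻¹ * t⁻¹) * d⁻¹) := by rw [hcd]; group
      _ = _ := by rw [sq_central c hdmem hd2 (mul_mem hht (inv_mem ht)), mul_inv_cancel_right]
  have hψ2 : ψ * ψ = 1 := by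
    have e : ψ * ψ = MulAut.conj (s⁻¹ * φ s⁻¹ * q) := MulEquiv.ext fun x => by
      rw [MulAut.mul_apply, hψa, hψa, MulAut.conj_apply, map_mul, map_mul, hφφ]
      simp [mul_assoc]
    have hr : s⁻¹ * φ s⁻¹ * q ∈ TT c := mul_mem (mul_mem (inv_mem hs) (hφT (inv_mem hs))) hq'
    have hrg : g * (s⁻¹ * φ s⁻¹ * q) * g⁻¹ = s⁻¹ * φ s⁻¹ * q := by
      have e' : (ψ * ψ) g = g := by rw [MulAut.mul_apply, hψg, hψg]
      rw [e, MulAut.conj_apply, mul_inv_eq_iff_eq_mul] at e'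
      rw [← e', mul_inv_cancel_right]
    rw [e, hT'.free _ hr hrg, map_one]
  obtain ⟨m, hm⟩ := hi ψ hψ2 T fun x hx => hψT x (hT ▸ hx)
  have hmT : m ∈ TT c := mem_of_centralizes c fun t ht => by
    have := hψT t ht
    rw [← hm, MulAut.conj_apply, mul_inv_eq_iff_eq_mul] at this
    exact this
  have hm1 : m = 1 := hT'.free m hmT (by
    have := hψg
    rw [← hm, MulAut.conj_apply, mul_inv_eq_iff_eq_mul] at this
    rw [← this, mul_inv_cancel_right])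
  refine ⟨s, hs, ?_⟩
  rw [hm1, map_one, hψ, map_inv] at hm
  exact (inv_mul_eq_one.mp hm.symm).symm

end CfsgLib.GoldStruct.U3
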